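import Mathlib
import Cfsg.Agent.Lib.Helper25.ACStmt
import Cfsg.Agent.Lib.Helper25.ACOddStmt

/-!
# S3911 piece CYCSTEP (call by helper25): in a `p`-group with a unique subgroup `N` of order `p`
all of whose proper subgroups are cyclic, every commutator lies in `N`.

Proof.  If `a`, `b` commute this is trivial.  Otherwise take maximal subgroups `A ∋ a`, `B ∋ b`
(normal, cyclic); `c = [a, b] ∈ A ⊓ B` commutes with `a` and `b`, `a ^ k * b = c ^ k * b * a ^ k`,
and `a ^ p ∈ B` commutes with `b`, so `c ^ p = 1`.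
-/

set_option autoImplicit false

namespace Cfsg.Agent.Lib.Helper32.AOCYCSTEP

open Cfsg.Agent.Lib.Helper25.ACStmt Cfsg.Agent.Lib.Helper25.ACOddStmt

universe u

theorem main : CycStep.{u} := by
  intro P _ _ p _ _hp2 hP N hN hNall hcyc a b
  classical
  by_cases hab : a * b = b * a
  · have h1 : a * b * a⁻¹ * b⁻¹ = 1 := by rw [hab]; group
    rw [h1]; exact N.one_mem
  -- commutativity inside proper subgroups
  have hcomm : ∀ H : Subgroup P, H ≠ ⊤ → ∀ x ∈ H, ∀ y ∈ H, x * y = y * x := by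
    intro H hH x hx y hy
    haveI := hcyc H hH
    obtain ⟨g, hg⟩ := IsCyclic.exists_generator (α := ↥H)
    obtain ⟨m, hm⟩ := Subgroup.mem_zpowers_iff.mp (hg ⟨x, hx⟩)
    obtain ⟨n, hn⟩ := Subgroup.mem_zpowers_iff.mp (hg ⟨y, hy⟩)
    have h1 : (⟨x, hx⟩ : ↥H) * ⟨y, hy⟩ = ⟨y, hy⟩ * ⟨x, hx⟩ := by
      rw [← hm, ← hn]; exact (Commute.zpow_zpow_self g m n).eq
    exact congrArg Subtype.val h1
  have hza : Subgroup.zpowers a ≠ ⊤ := by
    intro h
    have hb : b ∈ Subgroup.zpowers a := h ▸ Subgroup.mem_top b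
    obtain ⟨k, rfl⟩ := Subgroup.mem_zpowers_iff.mp hb
    exact hab (Commute.self_zpow a k).eq
  have hzb : Subgroup.zpowers b ≠ ⊤ := by
    intro h
    have ha : a ∈ Subgroup.zpowers b := h ▸ Subgroup.mem_top a
    obtain ⟨k, rfl⟩ := Subgroup.mem_zpowers_iff.mp ha
    exact hab (Commute.zpow_self b k).eq
  obtain ⟨A, hA, haA⟩ := (eq_top_or_exists_le_coatom (Subgroup.zpowers a)).resolve_left hza
  obtain ⟨B, hB, hbB⟩ := (eq_top_or_exists_le_coatom (Subgroup.zpowers b)).resolve_left hzb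
  have haA' : a ∈ A := haA (Subgroup.mem_zpowers a)
  have hbB' : b ∈ B := hbB (Subgroup.mem_zpowers b)
  haveI hnil : Group.IsNilpotent P := hP.isNilpotent
  have hnc : NormalizerCondition P := normalizerCondition_of_isNilpotent
  have hAn : A.Normal := Subgroup.NormalizerCondition.normal_of_coatom A hnc hA
  have hBn : B.Normal := Subgroup.NormalizerCondition.normal_of_coatom B hnc hB
  have haB : a ∉ B := fun h => hab (hcomm B hB.1 a h b hbB')
  have hcA : a * b * a⁻¹ * b⁻¹ ∈ A := by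
    have h1 : b * a⁻¹ * b⁻¹ ∈ A := hAn.conj_mem a⁻¹ (A.inv_mem haA') b
    have h2 : a * b * a⁻¹ * b⁻¹ = a * (b * a⁻¹ * b⁻¹) := by group
    rw [h2]; exact A.mul_mem haA' h1
  have hcB : a * b * a⁻¹ * b⁻¹ ∈ B := by
    have h1 : a * b * a⁻¹ ∈ B := hBn.conj_mem b hbB' a
    exact B.mul_mem h1 (B.inv_mem hbB')
  generalize hc : a * b * a⁻¹ * b⁻¹ = c at hcA hcB ⊢
  have hca : c * a = a * c := hcomm A hA.1 c hcA a haA'
  have hab' : a * b = c * b * a := by rw [← hc]; group
  have hpow : ∀ k : ℕ, a ^ k * b = c ^ k * b * a ^ k := by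
    intro k
    induction k with
    | zero => simp
    | succ k ih =>
      have hcak : a * c ^ k = c ^ k * a := ((show Commute a c from hca.symm).pow_right k).eq
      calc a ^ (k + 1) * b = a * (a ^ k * b) := by rw [pow_succ', mul_assoc]
        _ = a * (c ^ k * b * a ^ k) := by rw [ih]
        _ = (a * c ^ k) * b * a ^ k := by simp only [mul_assoc]
        _ = c ^ k * (a * b) * a ^ k := by rw [hcak]; simp only [mul_assoc]
        _ = c ^ k * (c * b * a) * a ^ k := by rw [hab']
        _ = c ^ (k + 1) * b * a ^ (k + 1) := by rw [pow_succ c k, pow_succ' a k]; simp only [mul_assoc]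
  -- `a ^ p ∈ B`
  have hapB : a ^ p ∈ B := by
    by_contra hnot
    have hlt : B < B ⊔ Subgroup.zpowers (a ^ p) := by
      refine lt_of_le_of_ne le_sup_left ?_
      intro h
      apply hnot
      rw [h]
      exact Subgroup.mem_sup_right (Subgroup.mem_zpowers _)
    have htop : B ⊔ Subgroup.zpowers (a ^ p) = ⊤ := hB.2 _ hlt
    have ha_top : a ∈ B ⊔ Subgroup.zpowers (a ^ p) := htop ▸ Subgroup.mem_top a
    obtain ⟨y, hy, z, hz, hyz⟩ := Subgroup.mem_sup_of_normal_left.mp ha_top
    obtain ⟨k, rfl⟩ := Subgroup.mem_zpowers_iff.mp hz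
    have hycomm : Commute y ((a ^ p) ^ k) := by
      have hy' : y = a * ((a ^ p) ^ k)⁻¹ := eq_mul_inv_of_mul_eq hyz
      rw [hy']
      have h1 : Commute a ((a ^ p) ^ k) := ((Commute.refl a).pow_right p).zpow_right k
      exact h1.mul_left (Commute.refl ((a ^ p) ^ k)).inv_left
    have key : ∀ i : ℕ, a ^ p ^ i ∈ B → a ∈ B := by
      intro i
      induction i with
      | zero => intro h; simpa using h
      | succ i ih =>
        intro h
        apply ih
        have h2 : a ^ p ^ i = y ^ p ^ i * ((a ^ p) ^ k) ^ p ^ i := by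
          rw [← hycomm.mul_pow, hyz]
        have h3 : ((a ^ p) ^ k) ^ p ^ i = (a ^ p ^ (i + 1)) ^ k := by
          have h4 : a ^ p ^ (i + 1) = (a ^ p) ^ p ^ i := by rw [← pow_mul, ← pow_succ']
          rw [h4, ← zpow_natCast ((a ^ p) ^ k) (p ^ i), ← zpow_mul, mul_comm, zpow_mul,
            zpow_natCast]
        rw [h2, h3]
        exact B.mul_mem (B.pow_mem hy _) (B.zpow_mem h k)
    obtain ⟨m, hm⟩ := hP a
    exact haB (key m (by rw [hm]; exact B.one_mem))
  -- conclude `c ^ p = 1`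
  have hcp : c ^ p = 1 := by
    have h1 := hpow p
    have h2 : a ^ p * b = b * a ^ p := hcomm B hB.1 _ hapB b hbB'
    rw [h2, mul_assoc] at h1
    have h3 : c ^ p * (b * a ^ p) = 1 * (b * a ^ p) := by rw [one_mul]; exact h1.symm
    exact mul_right_cancel h3
  have hord : orderOf c ∣ p := orderOf_dvd_of_pow_eq_one hcp
  rcases (Nat.dvd_prime (Fact.out : p.Prime)).mp hord with h | h
  · rw [orderOf_eq_one_iff.mp h]; exact N.one_mem
  · exact hNall c h

end Cfsg.Agent.Lib.Helper32.AOCYCSTEP
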