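import Mathlib
import Cfsg.Agent.Lib.Helper25.BSWSpec

/-!
# S3282 piece NRB: the Sylow `p`-subgroups are TI (`q = 2k - 1 = p ^ b`)
-/

set_option autoImplicit false

namespace Cfsg.Agent.Lib.Helper32.BSWNRB

open Cfsg.Agent.Lib.Helper25.BSWSpec

universe u

variable {G : Type u} [Group G] {t : G} {K : Subgroup G} {s : G} {k : ℕ}

/-- (F1) an element commuting with an involution is conjugate into `K` or is an involution -/
theorem conj_or_invol (hB : Basic t K s k) (w x : G) (hw : orderOf w = 2)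
    (hx : x * w = w * x) : ¬ NotConjK K x ∨ orderOf x = 2 := by
  obtain ⟨g, hg⟩ := isConj_iff.1 (hB.hconj t w hB.ht hw)
  have h1 : (g⁻¹ * x * g) * t = t * (g⁻¹ * x * g) := by
    rw [← hg] at hx
    have : g⁻¹ * (x * (g * t * g⁻¹)) * g = g⁻¹ * (g * t * g⁻¹ * x) * g := by rw [hx]
    simpa [mul_assoc] using this
  rcases (hB.cent_t _).1 h1 with h | ⟨a, ha, h⟩
  · left
    intro hn
    exact hn g⁻¹ (by simpa using h)
  · right
    have h2 : orderOf (g⁻¹ * x * g) = 2 := by rw [h]; exact hB.invol_coset a ha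
    have h3 := (MulAut.conj g⁻¹).orderOf_eq x
    rw [MulAut.conj_apply, inv_inv] at h3
    rw [← h3, h2]

/-- (F2) the centralizer of an element `a` of `K` with `a² ≠ 1` is `K` -/
theorem cent_K (hB : Basic t K s k) (a : G) (ha : a ∈ K) (ha2 : a * a ≠ 1) (c : G) :
    c * a = a * c ↔ c ∈ K := by
  constructor
  · intro hc
    have ha1 : a ≠ 1 := by rintro rfl; exact ha2 (one_mul 1)
    have h1 : c * a * c⁻¹ ∈ K := by rw [hc, mul_inv_cancel_right]; exact ha
    rcases (hB.cent_t c).1 (hB.ti a ha ha1 c h1) with h | ⟨x, hx, rfl⟩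
    · exact h
    · exfalso
      have h3 : x * (s * a) = x * (a * s) := by
        calc x * (s * a) = x * s * a := (mul_assoc _ _ _).symm
          _ = a * (x * s) := hc
          _ = a * x * s := (mul_assoc _ _ _).symm
          _ = x * a * s := by rw [hB.comm a ha x hx]
          _ = x * (a * s) := mul_assoc _ _ _
      have h4 : s * a = a * s := mul_left_cancel h3
      have h5 : s * a * s⁻¹ = a := by rw [h4, mul_inv_cancel_right]
      rw [hB.inv a ha] at h5
      apply ha2
      calc a * a = a⁻¹ * a := by rw [h5]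
        _ = 1 := inv_mul_cancel a
  · intro hc
    exact hB.comm c hc a ha

/-- conjugated form of (F2) -/
theorem cent_conjK (hB : Basic t K s k) (g y : G) (hy : g * y * g⁻¹ ∈ K) (hy2 : y * y ≠ 1)
    (c : G) : c * y = y * c ↔ g * c * g⁻¹ ∈ K := by
  have h2 : (g * y * g⁻¹) * (g * y * g⁻¹) ≠ 1 := by
    intro h
    apply hy2
    have h' : g * (y * y) * g⁻¹ = 1 := by
      rw [← h]; group
    exact conj_eq_one_iff.1 h'
  rw [← cent_K hB (g * y * g⁻¹) hy h2 (g * c * g⁻¹)]
  constructor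
  · intro h
    calc g * c * g⁻¹ * (g * y * g⁻¹) = g * (c * y) * g⁻¹ := by group
      _ = g * (y * c) * g⁻¹ := by rw [h]
      _ = g * y * g⁻¹ * (g * c * g⁻¹) := by group
  · intro h
    have h' : g * (c * y) * g⁻¹ = g * (y * c) * g⁻¹ := by
      calc g * (c * y) * g⁻¹ = g * c * g⁻¹ * (g * y * g⁻¹) := by group
        _ = g * y * g⁻¹ * (g * c * g⁻¹) := h
        _ = g * (y * c) * g⁻¹ := by group
    exact mul_left_cancel (mul_right_cancel h')

theorem mul_self_ne_one (l : G) (hl : ¬ 2 ∣ orderOf l) (hl1 : l ≠ 1) : l * l ≠ 1 := by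
  intro h
  have h2 : orderOf l ∣ 2 := orderOf_dvd_of_pow_eq_one (by rw [pow_two]; exact h)
  rcases (Nat.dvd_prime Nat.prime_two).1 h2 with h3 | h3
  · exact hl1 (orderOf_eq_one_iff.1 h3)
  · exact hl (h3 ▸ dvd_rfl)

variable [Finite G]

theorem odd_of_no_invol (L : Subgroup G) (hL : ∀ w ∈ L, orderOf w ≠ 2) (l : G) (hl : l ∈ L) :
    ¬ 2 ∣ orderOf l := by
  intro h
  have h1 := orderOf_pow_orderOf_div (x := l) (orderOf_pos l).ne' h
  exact hL _ (L.pow_mem hl _) h1

/-- the normalizer of a nontrivial `p`-subgroup contains no involution -/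
theorem no_invol (hB : Basic t K s k) (p : ℕ) (hp : p.Prime) (hp2 : p ≠ 2)
    (h2 : ∀ z : G, (NotConjK K z ∧ aInv z = 0) ↔ orderOf z = p)
    (h3 : ∀ x : G, x ≠ 1 → (∃ i : ℕ, orderOf x = p ^ i) → orderOf x = p)
    (R : Subgroup G) (hR : R ≠ ⊥) (hRp : IsPGroup p R) (w : G)
    (hwL : w ∈ Subgroup.normalizer (R : Set G)) (hw : orderOf w = 2) : False := by
  obtain ⟨x, hxR, hx1⟩ := R.bot_or_exists_ne_one.resolve_left hR
  have hord : ∀ z ∈ R, z ≠ 1 → orderOf z = p := by
    intro z hz hz1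
    apply h3 z hz1
    obtain ⟨j, hj⟩ := hRp ⟨z, hz⟩
    have hj' : z ^ (p ^ j) = 1 := by simpa using congrArg Subtype.val hj
    obtain ⟨i, -, hi⟩ := (Nat.dvd_prime_pow hp).1 (orderOf_dvd_of_pow_eq_one hj')
    exact ⟨i, hi⟩
  have hww : w * w = 1 := by rw [← pow_two, ← hw, pow_orderOf_eq_one]
  have hwinv : w⁻¹ = w := inv_eq_of_mul_eq_one_left hww
  obtain ⟨x', hx'def⟩ : ∃ x', x' = x⁻¹ * (w * x * w⁻¹) := ⟨_, rfl⟩
  have hx'R : x' ∈ R := by
    rw [hx'def]
    exact R.mul_mem (R.inv_mem hxR) ((Subgroup.mem_normalizer_iff.1 hwL x).1 hxR)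
  have hx'inv : w * x' * w⁻¹ = x'⁻¹ := by
    rw [hx'def, hwinv]
    simp only [mul_inv_rev, inv_inv, hwinv, mul_assoc]
    rw [hww, mul_one]
  by_cases hx'1 : x' = 1
  · have hcomm : x * w = w * x := by
      rw [hx'def] at hx'1
      have h5 : w * x * w⁻¹ = x := by
        have := congrArg (fun z => x * z) hx'1
        simpa using this
      calc x * w = w * x * w⁻¹ * w := by rw [h5]
        _ = w * x := by group
    rcases conj_or_invol hB w x hw hcomm with h | h
    · exact h ((h2 x).2 (hord x hxR hx1)).1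
    · rw [hord x hxR hx1] at h
      exact hp2 h
  · have h0 := ((h2 x').2 (hord x' hx'R hx'1)).2
    unfold aInv at h0
    have hne : Nonempty {w : G // orderOf w = 2 ∧ w * x' * w⁻¹ = x'⁻¹} := ⟨⟨w, hw, hx'inv⟩⟩
    exact (Nat.card_pos (α := {w : G // orderOf w = 2 ∧ w * x' * w⁻¹ = x'⁻¹})).ne' h0

theorem main : NRB.{u} := by
  intro hRS1 hRS2 hPC hSTI G _ _ t K s k hB hk h1 p hp hq h2 h3
  obtain ⟨b, hb⟩ := hq
  have hb0 : b ≠ 0 := by
    rintro rfl
    simp at hb
    omega
  have hpq : p ∣ 2 * k - 1 := by rw [hb]; exact dvd_pow_self p hb0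
  have hp2 : p ≠ 2 := by
    rintro rfl
    obtain ⟨c, hc⟩ := hpq
    omega
  have hpk : ¬ p ∣ k := by
    intro h
    have h4 : p ∣ 2 * k - (2 * k - 1) := Nat.dvd_sub (Dvd.dvd.mul_left h 2) hpq
    have h5 : 2 * k - (2 * k - 1) = 1 := by omega
    rw [h5] at h4
    exact hp.one_lt.ne' (Nat.dvd_one.1 h4)
  have hpk1 : ¬ p ∣ k - 1 := by
    intro h
    have h4 : p ∣ (2 * k - 1) - 2 * (k - 1) := Nat.dvd_sub hpq (Dvd.dvd.mul_left h 2)
    have h5 : (2 * k - 1) - 2 * (k - 1) = 1 := by omega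
    rw [h5] at h4
    exact hp.one_lt.ne' (Nat.dvd_one.1 h4)
  apply hSTI G p hp
  intro R hR hRp
  apply hPC G p hp
  intro y hyL hy1 hpy
  have hLinv : ∀ w ∈ Subgroup.normalizer (R : Set G), orderOf w ≠ 2 :=
    fun w hwL hw => no_invol hB p hp hp2 h2 h3 R hR hRp w hwL hw
  have hodd := odd_of_no_invol _ hLinv
  have hy2 : y * y ≠ 1 := mul_self_ne_one y (hodd y hyL) hy1
  by_cases hyK : NotConjK K y
  · -- `y` is not conjugate into `K`
    have haI : aInv y = k - 1 := by
      rcases h1 y hyK with h | h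
      · exact absurd ((h2 y).1 ⟨hyK, h⟩ ▸ dvd_rfl) hpy
      · exact h
    have hne : Nonempty {w : G // orderOf w = 2 ∧ w * y * w⁻¹ = y⁻¹} := by
      by_contra hemp
      rw [not_nonempty_iff] at hemp
      have h0 : aInv y = 0 := by unfold aInv; exact Nat.card_of_isEmpty
      omega
    obtain ⟨⟨w₀, hw₀, hw₀y⟩⟩ := hne
    obtain ⟨hinvC, hC, hcard⟩ := hRS1 G t K s k hB y w₀ hyK hw₀ hw₀y
    obtain ⟨E, hNE, hCE, hw₀E, hEdvd, g, hg, hEK⟩ := hRS2 hRS1 G t K s k hB y w₀ hyK hw₀ hw₀y
    have hcardC : Nat.card (Subgroup.centralizer ({y} : Set G)) = k - 1 := by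
      rw [← hcard, haI]
    have hE2 : Nat.card E ∣ 2 := by
      have hEk : Nat.card E ∣ k := by
        have h4 := Subgroup.card_dvd_of_le hEK
        rwa [Subgroup.card_map_of_injective (MulAut.conj g).injective, hB.card_K] at h4
      rw [hcardC] at hEdvd
      have h4 : Nat.card E ∣ k - (k - 1 - 1) := Nat.dvd_sub hEk hEdvd
      have h5 : k - (k - 1 - 1) = 2 := by omega
      rwa [h5] at h4
    have hEw : ∀ e ∈ E, e = 1 ∨ e = w₀ := by
      have hz : Subgroup.zpowers w₀ = E := by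
        apply Subgroup.eq_of_le_of_card_ge ((Subgroup.zpowers_le).2 hw₀E)
        rw [Nat.card_zpowers, hw₀]
        exact Nat.le_of_dvd (by norm_num) hE2
      intro e he
      rw [← hz] at he
      obtain ⟨n, rfl⟩ := Subgroup.mem_zpowers_iff.1 he
      rcases Int.emod_two_eq_zero_or_one n with h | h
      · left
        rw [← zpow_mod_orderOf, hw₀]
        simp [h]
      · right
        rw [← zpow_mod_orderOf, hw₀]
        simp [h]
    have hmemC : ∀ c : G, c ∈ Subgroup.centralizer ({y} : Set G) ↔ c * y = y * c :=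
      fun c => Subgroup.mem_centralizer_singleton_iff
    refine ⟨?_, ?_, ?_⟩
    · intro w hwL hw1 hwy x hxL
      have hwC : w ∈ Subgroup.centralizer ({y} : Set G) := (hmemC w).2 hwy
      have h4 := (hC w hwC hw1).2
      rw [← hmemC x, ← h4, Subgroup.mem_centralizer_singleton_iff]
    · intro l hlL hl
      have h5 : l * y * l⁻¹ ∈ Subgroup.centralizer ({y} : Set G) := (hmemC _).2 hl
      have h6 : l * y * l⁻¹ ≠ 1 := by
        intro h
        exact hy1 (conj_eq_one_iff.1 h)
      have h7 := (hC _ h5 h6).2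
      have h8 : l ∈ Subgroup.normalizer
          ((Subgroup.centralizer ({y} : Set G) : Subgroup G) : Set G) := by
        rw [Subgroup.mem_normalizer_iff]
        intro n
        rw [hmemC n]
        conv_rhs => rw [← h7, Subgroup.mem_centralizer_singleton_iff]
        constructor
        · intro h
          calc l * n * l⁻¹ * (l * y * l⁻¹) = l * (n * y) * l⁻¹ := by group
            _ = l * (y * n) * l⁻¹ := by rw [h]
            _ = l * y * l⁻¹ * (l * n * l⁻¹) := by group
        · intro h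
          have h' : l * (n * y) * l⁻¹ = l * (y * n) * l⁻¹ := by
            calc l * (n * y) * l⁻¹ = l * n * l⁻¹ * (l * y * l⁻¹) := by group
              _ = l * y * l⁻¹ * (l * n * l⁻¹) := h
              _ = l * (y * n) * l⁻¹ := by group
          exact mul_left_cancel (mul_right_cancel h')
      rw [hNE] at h8
      have h9 : l ∈ ((Subgroup.centralizer ({y} : Set G) ⊔ E : Subgroup G) : Set G) := h8
      rw [Subgroup.coe_mul_of_right_le_normalizer_left _ _
        (by rw [hNE]; exact le_sup_right)] at h9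
      obtain ⟨c, hc, e, he, hce⟩ := h9
      have hce' : l = c * e := hce.symm
      rcases hEw e he with he1 | he1
      · rw [hce', he1, mul_one]
        exact (hmemC c).1 hc
      · have hww : w₀ * w₀ = 1 := by rw [← pow_two, ← hw₀, pow_orderOf_eq_one]
        have h10 := hinvC c hc
        have h11 : l * l = 1 := by
          rw [hce', he1]
          calc c * w₀ * (c * w₀) = c * (w₀ * c * w₀⁻¹) * (w₀ * w₀) := by group
            _ = 1 := by rw [h10, hww]; group
        by_cases h12 : l = 1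
        · rw [h12, one_mul, mul_one]
        · exact absurd h11 (mul_self_ne_one _ (hodd _ hlL) h12)
    · intro hdvd
      have h4 := Subgroup.card_dvd_of_le (inf_le_left :
        Subgroup.centralizer ({y} : Set G) ⊓ Subgroup.normalizer (R : Set G) ≤ _)
      rw [hcardC] at h4
      exact hpk1 (hdvd.trans h4)
  · -- `y` is conjugate into `K`
    unfold NotConjK at hyK
    push Not at hyK
    obtain ⟨g, hg⟩ := hyK
    have hcy := cent_conjK hB g y hg hy2
    refine ⟨?_, ?_, ?_⟩
    · intro w hwL hw1 hwy x hxL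
      have hw2 : w * w ≠ 1 := mul_self_ne_one w (hodd w hwL) hw1
      have hgw : g * w * g⁻¹ ∈ K := (hcy w).1 hwy
      rw [cent_conjK hB g w hgw hw2 x, hcy x]
    · intro l hlL hl
      have h5 : g * (l * y * l⁻¹) * g⁻¹ ∈ K := (hcy _).1 hl
      have h6 : (g * l * g⁻¹) * (g * y * g⁻¹) * (g * l * g⁻¹)⁻¹ ∈ K := by
        have h' : (g * l * g⁻¹) * (g * y * g⁻¹) * (g * l * g⁻¹)⁻¹
            = g * (l * y * l⁻¹) * g⁻¹ := by group
        rw [h']
        exact h5
      have ha1 : g * y * g⁻¹ ≠ 1 := fun h => hy1 (conj_eq_one_iff.1 h)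
      have h7 := hB.ti _ hg ha1 _ h6
      rcases (hB.cent_t _).1 h7 with h | ⟨x, hx, h⟩
      · exact (hcy l).2 h
      · exfalso
        have h8 : orderOf (g * l * g⁻¹) = 2 := by rw [h]; exact hB.invol_coset x hx
        have h9 := (MulAut.conj g).orderOf_eq l
        rw [MulAut.conj_apply] at h9
        exact hLinv l hlL (h9 ▸ h8)
    · intro hdvd
      have : Fact p.Prime := ⟨hp⟩
      obtain ⟨⟨c, hc⟩, hco⟩ := exists_prime_orderOf_dvd_card' p hdvd
      have hc1 : orderOf c = p := by rw [← hco]; exact (Subgroup.orderOf_mk c hc).symm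
      have hcK : g * c * g⁻¹ ∈ K :=
        (hcy c).1 (Subgroup.mem_centralizer_singleton_iff.1 hc.1)
      have h4 : orderOf (g * c * g⁻¹) ∣ Nat.card K := by
        have h5 := orderOf_dvd_natCard (⟨g * c * g⁻¹, hcK⟩ : K)
        rwa [Subgroup.orderOf_mk] at h5
      have h9 := (MulAut.conj g).orderOf_eq c
      rw [MulAut.conj_apply] at h9
      rw [h9, hc1, hB.card_K] at h4
      exact hpk h4

end Cfsg.Agent.Lib.Helper32.BSWNRB
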