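import Mathlib
import Cfsg.Agent.Lib.Helper25.BSWSpec
import Cfsg.Agent.Lib.Helper77.BSWBasicOf
import Cfsg.Agent.Lib.Helper32.BSWNRB
import Cfsg.Agent.S3277

/-!
# S3282 piece CaseTwo: the case `|K| = 2` (`G` is `A₄` or `A₅`)
-/

set_option autoImplicit false

namespace Cfsg.Agent.Lib.Helper32.BSWCaseTwo

open Cfsg.Agent.Lib.Helper25.BSWSpec

universe u

variable {G : Type u} [Group G] {t : G} {K : Subgroup G} {s : G}

/-- a subgroup of order two consists of `1` and any of its nonidentity elements -/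
theorem mem_card_two [Finite G] (E : Subgroup G) (hE : Nat.card E = 2) (u : G) (hu : u ∈ E)
    (hu1 : u ≠ 1) : ∀ e ∈ E, e = 1 ∨ e = u := by
  have ho : orderOf u = 2 := by
    have h1 : orderOf u ∣ 2 := by
      have := orderOf_dvd_natCard (⟨u, hu⟩ : E)
      rwa [Subgroup.orderOf_mk, hE] at this
    rcases (Nat.dvd_prime Nat.prime_two).1 h1 with h | h
    · exact absurd (orderOf_eq_one_iff.1 h) hu1
    · exact h
  have hz : Subgroup.zpowers u = E := by
    apply Subgroup.eq_of_le_of_card_ge ((Subgroup.zpowers_le).2 hu)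
    rw [Nat.card_zpowers, ho, hE]
  intro e he
  rw [← hz] at he
  obtain ⟨n, rfl⟩ := Subgroup.mem_zpowers_iff.1 he
  rcases Int.emod_two_eq_zero_or_one n with h | h
  · left
    rw [← zpow_mod_orderOf, ho]
    simp [h]
  · right
    rw [← zpow_mod_orderOf, ho]
    simp [h]

/-- every element of `C(t)` squares to one -/
theorem sq_one_of_cent (hB : Basic t K s 2) (hK : ∀ x ∈ K, x = 1 ∨ x = t) (c : G)
    (hc : c * t = t * c) : c * c = 1 := by
  have htt : t * t = 1 := by rw [← pow_two, ← hB.ht, pow_orderOf_eq_one]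
  rcases (hB.cent_t c).1 hc with h | ⟨x, hx, rfl⟩
  · rcases hK c h with rfl | rfl
    · exact one_mul 1
    · exact htt
  · have h1 := hB.invol_coset x hx
    rw [← pow_two, ← h1, pow_orderOf_eq_one]

/-- an element commuting with an involution squares to one -/
theorem sq_one_of_comm_invol (hB : Basic t K s 2) (hK : ∀ x ∈ K, x = 1 ∨ x = t) (w x : G)
    (hw : orderOf w = 2) (hx : x * w = w * x) : x * x = 1 := by
  obtain ⟨g, hg⟩ := isConj_iff.1 (hB.hconj t w hB.ht hw)
  have h1 : (g⁻¹ * x * g) * t = t * (g⁻¹ * x * g) := by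
    rw [← hg] at hx
    have : g⁻¹ * (x * (g * t * g⁻¹)) * g = g⁻¹ * (g * t * g⁻¹ * x) * g := by rw [hx]
    simpa [mul_assoc] using this
  have h2 := sq_one_of_cent hB hK _ h1
  have h3 : g⁻¹ * (x * x) * g⁻¹⁻¹ = 1 := by
    rw [← h2]; group
  exact conj_eq_one_iff.1 h3

/-- the structure of a subgroup of prime order `q` when `(|G|, q)` is `(12, 3)` or `(60, 5)` -/
theorem analysis [Finite G] (hB : Basic t K s 2) (hK : ∀ x ∈ K, x = 1 ∨ x = t) (q : ℕ)
    (hq : q.Prime) (hq2 : q ≠ 2) (Q : Subgroup G) (hQ : Nat.card Q = q)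
    (hG : (Nat.card G = 12 ∧ q = 3) ∨ (Nat.card G = 60 ∧ q = 5)) :
    (∀ x ∈ Q, x ≠ 1 → Subgroup.centralizer ({x} : Set G) = Q) ∧
    Nat.card (Subgroup.normalizer (Q : Set G)) = q * (q - 1) / 2 := by
  have hqodd : ¬ 2 ∣ q := fun h => hq2 ((Nat.prime_dvd_prime_iff_eq Nat.prime_two hq).1 h).symm
  have hord : ∀ x ∈ Q, x ≠ 1 → orderOf x = q := by
    intro x hx hx1
    have h1 : orderOf x ∣ q := by
      have := orderOf_dvd_natCard (⟨x, hx⟩ : Q)
      rwa [Subgroup.orderOf_mk, hQ] at this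
    rcases (Nat.dvd_prime hq).1 h1 with h | h
    · exact absurd (orderOf_eq_one_iff.1 h) hx1
    · exact h
  have hzp : ∀ x ∈ Q, x ≠ 1 → Subgroup.zpowers x = Q := by
    intro x hx hx1
    apply Subgroup.eq_of_le_of_card_ge ((Subgroup.zpowers_le).2 hx)
    rw [Nat.card_zpowers, hord x hx hx1, hQ]
  have hno : ∀ x ∈ Q, ∀ w : G, orderOf w = 2 → x * w = w * x → x = 1 := by
    intro x hx w hw hxw
    by_contra hx1
    have h1 := sq_one_of_comm_invol hB hK w x hw hxw
    exact BSWNRB.mul_self_ne_one x (by rw [hord x hx hx1]; exact hqodd) hx1 h1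
  -- involutions of `N(Q)` invert `Q`
  have hinvQ : ∀ u ∈ Subgroup.normalizer (Q : Set G), orderOf u = 2 →
      ∀ x ∈ Q, u * x * u⁻¹ = x⁻¹ := by
    intro u hu huo x hx
    have huu : u * u = 1 := by rw [← pow_two, ← huo, pow_orderOf_eq_one]
    have huinv : u⁻¹ = u := inv_eq_of_mul_eq_one_left huu
    have hux : u * x * u⁻¹ ∈ Q := (Subgroup.mem_normalizer_iff.1 hu x).1 hx
    by_cases hx1 : x = 1
    · subst hx1; simp
    have hcomm : x * (u * x * u⁻¹) = (u * x * u⁻¹) * x := by
      have hux' := hux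
      rw [← hzp x hx hx1] at hux'
      obtain ⟨n, hn⟩ := Subgroup.mem_zpowers_iff.1 hux'
      rw [← hn]
      exact ((Commute.refl x).zpow_right n).eq
    have h1 : (x * (u * x * u⁻¹)) * u = u * (x * (u * x * u⁻¹)) := by
      calc (x * (u * x * u⁻¹)) * u = ((u * x * u⁻¹) * x) * u := by rw [hcomm]
        _ = u * (x * (u * x * u⁻¹)) := by rw [huinv]; simp only [mul_assoc]
    have h2 := hno _ (Q.mul_mem hx hux) u huo h1
    exact eq_inv_of_mul_eq_one_right h2
  have hNtop : Subgroup.normalizer (Q : Set G) ≠ ⊤ := by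
    intro htop
    obtain ⟨x, hx, hx1⟩ : ∃ x ∈ Q, x ≠ 1 := by
      apply Q.bot_or_exists_ne_one.resolve_left
      rintro rfl
      rw [Subgroup.card_bot] at hQ
      exact hq.one_lt.ne hQ
    have ht1 := hinvQ t (htop ▸ Subgroup.mem_top t) hB.ht x hx
    have hs1 := hinvQ s (htop ▸ Subgroup.mem_top s) hB.hs x hx
    have hts : orderOf (t * s) = 2 := hB.invol_coset t hB.htK
    have h1 : x * (t * s) = (t * s) * x := by
      have h2 : (t * s) * x * (t * s)⁻¹ = x := by
        calc (t * s) * x * (t * s)⁻¹ = t * (s * x * s⁻¹) * t⁻¹ := by group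
          _ = t * x⁻¹ * t⁻¹ := by rw [hs1]
          _ = (t * x * t⁻¹)⁻¹ := by group
          _ = x := by rw [ht1, inv_inv]
      calc x * (t * s) = (t * s) * x * (t * s)⁻¹ * (t * s) := by rw [h2]
        _ = (t * s) * x := by group
    exact hx1 (hno x hx (t * s) hts h1)
  -- Sylow counting
  have : Fact q.Prime := ⟨hq⟩
  have hfac : (Nat.card G).factorization q = 1 := by
    rcases hG with ⟨h, rfl⟩ | ⟨h, rfl⟩
    · rw [h, show (12 : ℕ) = 3 * 4 from rfl, Nat.factorization_mul (by norm_num) (by norm_num),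
        Finsupp.add_apply, Nat.Prime.factorization_self Nat.prime_three,
        Nat.factorization_eq_zero_of_not_dvd (by norm_num)]
    · rw [h, show (60 : ℕ) = 5 * 12 from rfl, Nat.factorization_mul (by norm_num) (by norm_num),
        Finsupp.add_apply, Nat.Prime.factorization_self Nat.prime_five,
        Nat.factorization_eq_zero_of_not_dvd (by norm_num)]
  obtain ⟨P, hP⟩ : ∃ P : Sylow q G, (P : Subgroup G) = Q :=
    ⟨Sylow.ofCard Q (by rw [hQ, hfac, pow_one]), Sylow.coe_ofCard Q _⟩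
  have hmod := card_sylow_modEq_one q G
  have hidx : Nat.card (Sylow q G) = (Subgroup.normalizer (Q : Set G)).index := by
    have h := P.card_eq_index_normalizer
    have hPs : (P : Set G) = (Q : Set G) := by rw [← hP]; rfl
    rw [hPs] at h
    exact h
  have hmul := Subgroup.card_mul_index (Subgroup.normalizer (Q : Set G))
  have hQN : Q ≤ Subgroup.normalizer (Q : Set G) := Subgroup.le_normalizer
  have hdvd : q ∣ Nat.card (Subgroup.normalizer (Q : Set G)) :=
    hQ ▸ Subgroup.card_dvd_of_le hQN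
  have hidx1 : (Subgroup.normalizer (Q : Set G)).index ≠ 1 :=
    fun h => hNtop (Subgroup.index_eq_one.1 h)
  have hcardN : Nat.card (Subgroup.normalizer (Q : Set G)) = q * (q - 1) / 2 := by
    rw [← hidx] at hmul hidx1
    generalize Nat.card (Sylow q G) = n at hmod hmul hidx1
    generalize Nat.card (Subgroup.normalizer (Q : Set G)) = m at hmul hdvd ⊢
    obtain ⟨c, rfl⟩ := hdvd
    unfold Nat.ModEq at hmod
    rcases hG with ⟨h, rfl⟩ | ⟨h, rfl⟩
    · rw [h] at hmul
      have hn : n ∣ 12 := Dvd.intro_left _ hmul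
      have hn12 : n ≤ 12 := Nat.le_of_dvd (by norm_num) hn
      interval_cases n <;> omega
    · rw [h] at hmul
      have hn : n ∣ 60 := Dvd.intro_left _ hmul
      have hn60 : n ≤ 60 := Nat.le_of_dvd (by norm_num) hn
      interval_cases n <;> omega
  refine ⟨?_, hcardN⟩
  intro x hx hx1
  have hQC : Q ≤ Subgroup.centralizer ({x} : Set G) := by
    intro y hy
    rw [Subgroup.mem_centralizer_singleton_iff]
    rw [← hzp x hx hx1] at hy
    obtain ⟨n, rfl⟩ := Subgroup.mem_zpowers_iff.1 hy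
    exact ((Commute.refl x).zpow_left n).eq
  have hCN : Subgroup.centralizer ({x} : Set G) ≤ Subgroup.normalizer (Q : Set G) := by
    intro c hc
    rw [Subgroup.mem_centralizer_singleton_iff] at hc
    have hcy : ∀ y ∈ Q, c * y * c⁻¹ = y := by
      intro y hy
      rw [← hzp x hx hx1] at hy
      obtain ⟨n, rfl⟩ := Subgroup.mem_zpowers_iff.1 hy
      have h1 : Commute c (x ^ n) := (show Commute c x from hc).zpow_right n
      rw [h1.eq, mul_inv_cancel_right]
    rw [Subgroup.mem_normalizer_iff]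
    intro y
    constructor
    · intro hy
      rw [hcy y hy]
      exact hy
    · intro hy
      have h3 : c * (c * y * c⁻¹) * c⁻¹ = c * y * c⁻¹ := hcy _ hy
      have h2 : c * y * c⁻¹ = y := mul_left_cancel (mul_right_cancel h3)
      rw [← h2]
      exact hy
  have hodd : ¬ 2 ∣ Nat.card (Subgroup.centralizer ({x} : Set G)) := by
    intro h2
    obtain ⟨⟨u, hu⟩, huo⟩ := exists_prime_orderOf_dvd_card' 2 h2
    have huo' : orderOf u = 2 := by rw [← huo]; exact (Subgroup.orderOf_mk u hu).symm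
    rw [Subgroup.mem_centralizer_singleton_iff] at hu
    exact hx1 (hno x hx u huo' hu.symm)
  have h1 := Subgroup.card_dvd_of_le hCN
  have h2 := Subgroup.card_dvd_of_le hQC
  rw [hQ] at h2
  rw [hcardN] at h1
  symm
  apply Subgroup.eq_of_le_of_card_ge hQC
  rw [hQ]
  generalize Nat.card (Subgroup.centralizer ({x} : Set G)) = m at h1 h2 hodd ⊢
  rcases hG with ⟨h, rfl⟩ | ⟨h, rfl⟩
  · exact Nat.le_of_dvd (by norm_num) (by simpa using h1)
  · have h10 : m ∣ 10 := by simpa using h1
    have hm10 : m ≤ 10 := Nat.le_of_dvd (by norm_num) h10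
    interval_cases m <;> omega

/-- if `C(t)` is normal then `|G| = 12` -/
theorem card_twelve [Finite G] (hbsw : BSW t K s) (hB : Basic t K s 2)
    (hK : ∀ x ∈ K, x = 1 ∨ x = t) (hK2 : Nat.card K = 2)
    (hN : (Subgroup.centralizer ({t} : Set G)).Normal) : Nat.card G = 12 := by
  have hyp := Cfsg.Agent.Lib.Helper77.BSWBridge.hyp_of_bsw hbsw
  have hcH := hyp.card_H
  have hinv := hyp.card_invol
  rw [hK2] at hcH hinv
  have hset : {b : G | orderOf b = 2}
      = ((Subgroup.centralizer ({t} : Set G) : Subgroup G) : Set G) \ {1} := by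
    ext b
    constructor
    · intro hb
      obtain ⟨g, hg⟩ := isConj_iff.1 (hB.hconj t b hB.ht hb)
      refine ⟨?_, ?_⟩
      · rw [← hg]
        exact hN.conj_mem t (Subgroup.mem_centralizer_singleton_iff.2 rfl) g
      · intro h1
        rw [Set.mem_singleton_iff] at h1
        rw [h1] at hb
        simp at hb
    · rintro ⟨hb, hb1⟩
      have h1 := sq_one_of_cent hB hK b (Subgroup.mem_centralizer_singleton_iff.1 hb)
      have : Fact (Nat.Prime 2) := ⟨Nat.prime_two⟩
      exact orderOf_eq_prime (by rw [pow_two]; exact h1) hb1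
  have hcard : Nat.card {b : G // orderOf b = 2} = 3 := by
    have h1 : Nat.card {b : G // orderOf b = 2} = Set.ncard {b : G | orderOf b = 2} :=
      Nat.card_coe_set_eq _
    rw [h1, hset, Set.ncard_sdiff_singleton_of_mem (Subgroup.one_mem _), ← Nat.card_coe_set_eq]
    show Nat.card (Subgroup.centralizer ({t} : Set G)) - 1 = 3
    rw [hcH]
  rw [hcard] at hinv
  omega

/-- if `C(t)` is not normal then `|G| = 60` -/
theorem card_sixty [Finite G] (hbsw : BSW t K s) (hB : Basic t K s 2)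
    (hK : ∀ x ∈ K, x = 1 ∨ x = t) (hK2 : Nat.card K = 2)
    (hN : ¬ (Subgroup.centralizer ({t} : Set G)).Normal) : Nat.card G = 60 := by
  have hyp := Cfsg.Agent.Lib.Helper77.BSWBridge.hyp_of_bsw hbsw
  have hcH := hyp.card_H
  rw [hK2] at hcH
  have hC4 : Nat.card (Subgroup.centralizer ({t} : Set G)) = 4 := hcH
  have ht1 : t ≠ 1 := by
    intro h
    have := hB.ht
    rw [h] at this
    simp at this
  have h2p : Fact (Nat.Prime 2) := ⟨Nat.prime_two⟩
  have hCe : ∀ c ∈ Subgroup.centralizer ({t} : Set G), c ^ 2 = 1 := by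
    intro c hc
    rw [pow_two]
    exact sq_one_of_cent hB hK c (Subgroup.mem_centralizer_singleton_iff.1 hc)
  have hne : ∀ E : Subgroup G, E.Normal → Cfsg.IsElementaryAbelian 2 E →
      Nat.card ↥E ≠ 2 ∧ Nat.card ↥E ≠ 4 := by
    rintro E hEn ⟨hEc, hE2⟩
    have htE : E ≠ ⊥ → t ∈ E := by
      intro hEb
      obtain ⟨u, hu, hu1⟩ := E.bot_or_exists_ne_one.resolve_left hEb
      have huo : orderOf u = 2 := orderOf_eq_prime (hE2 u hu) hu1
      obtain ⟨g, hg⟩ := isConj_iff.1 (hB.hconj u t huo hB.ht)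
      rw [← hg]
      exact hEn.conj_mem u hu g
    constructor
    · intro hE
      have hEb : E ≠ ⊥ := by
        rintro rfl
        rw [Subgroup.card_bot] at hE
        omega
      have ht := htE hEb
      have hmem := mem_card_two E hE t ht ht1
      apply hN
      have hcent : Subgroup.centralizer ({t} : Set G) = ⊤ := by
        rw [eq_top_iff]
        intro g _
        rw [Subgroup.mem_centralizer_singleton_iff]
        rcases hmem _ (hEn.conj_mem t ht g) with h | h
        · exact absurd (conj_eq_one_iff.1 h) ht1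
        · calc g * t = g * t * g⁻¹ * g := by group
            _ = t * g := by rw [h]
      rw [hcent]
      infer_instance
    · intro hE
      have hEb : E ≠ ⊥ := by
        rintro rfl
        rw [Subgroup.card_bot] at hE
        omega
      have ht := htE hEb
      have hle : E ≤ Subgroup.centralizer ({t} : Set G) := by
        intro e he
        rw [Subgroup.mem_centralizer_singleton_iff]
        have h1 := hEc.is_comm.comm (⟨e, he⟩ : E) ⟨t, ht⟩
        exact congrArg Subtype.val h1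
      have heq : E = Subgroup.centralizer ({t} : Set G) :=
        Subgroup.eq_of_le_of_card_ge hle (by rw [hC4, hE])
      exact hN (heq ▸ hEn)
  have hnc : ¬ Cfsg.HasNormalPComplement 2 G := by
    rintro ⟨P, N, hNn, hcompl⟩
    have h2dvd : 2 ∣ Nat.card G := by
      have := orderOf_dvd_natCard t
      rwa [hB.ht] at this
    have hPne : (P : Subgroup G) ≠ ⊥ := P.ne_bot_of_dvd_card h2dvd
    have hPnt : Nontrivial (P : Subgroup G) := (Subgroup.nontrivial_iff_ne_bot _).2 hPne
    obtain ⟨z, hzc, hz1⟩ : ∃ z : (P : Subgroup G),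
        z ∈ Subgroup.center (P : Subgroup G) ∧ z ≠ 1 := by
      have hcn := IsPGroup.center_nontrivial P.isPGroup'
      obtain ⟨⟨z, hz⟩, hz1⟩ := exists_ne (1 : Subgroup.center (P : Subgroup G))
      exact ⟨z, hz, fun h => hz1 (Subtype.ext h)⟩
    have hzo : 2 ∣ orderOf z := by
      obtain ⟨j, hj⟩ := P.isPGroup' z
      have h1 : orderOf z ∣ 2 ^ j := orderOf_dvd_of_pow_eq_one hj
      obtain ⟨i, -, hi⟩ := (Nat.dvd_prime_pow Nat.prime_two).1 h1
      have hi0 : i ≠ 0 := by
        rintro rfl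
        rw [pow_zero] at hi
        exact hz1 (orderOf_eq_one_iff.1 hi)
      rw [hi]
      exact dvd_pow_self 2 hi0
    obtain ⟨z', hz'def⟩ : ∃ z' : (P : Subgroup G), z' = z ^ (orderOf z / 2) := ⟨_, rfl⟩
    have hz'o : orderOf z' = 2 := by
      rw [hz'def]
      exact orderOf_pow_orderOf_div (orderOf_pos z).ne' hzo
    have hz'c : ∀ b : (P : Subgroup G), b * z' = z' * b := by
      intro b
      rw [hz'def]
      have h1 : Commute b z := Subgroup.mem_center_iff.1 hzc b
      exact (h1.pow_right _).eq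
    obtain ⟨zG, hzG⟩ : ∃ zG : G, zG = (z' : G) := ⟨_, rfl⟩
    have hzGP : zG ∈ (P : Subgroup G) := by rw [hzG]; exact z'.2
    have hzGo : orderOf zG = 2 := by rw [hzG, Subgroup.orderOf_coe]; exact hz'o
    have hzGc : ∀ b ∈ (P : Subgroup G), b * zG = zG * b := by
      intro b hb
      rw [hzG]
      exact congrArg Subtype.val (hz'c ⟨b, hb⟩)
    obtain ⟨g, hg⟩ := isConj_iff.1 (hB.hconj t zG hB.ht hzGo)
    obtain ⟨a, hadef⟩ : ∃ a : G, a = g * s * g⁻¹ := ⟨_, rfl⟩
    have hao : orderOf a = 2 := by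
      rw [hadef]
      have h1 := (MulAut.conj g).orderOf_eq s
      rw [MulAut.conj_apply] at h1
      rw [h1]
      exact hB.hs
    have haz : a ≠ zG := by
      intro h
      rw [hadef, ← hg] at h
      have hst : s = t := mul_left_cancel (mul_right_cancel h)
      exact hB.hsK (hst ▸ hB.htK)
    have hPle : (P : Subgroup G) ≤ Subgroup.centralizer ({zG} : Set G) := by
      intro b hb
      rw [Subgroup.mem_centralizer_singleton_iff]
      exact hzGc b hb
    have hCp : IsPGroup 2 (Subgroup.centralizer ({zG} : Set G)) := by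
      rintro ⟨c, hc⟩
      refine ⟨1, Subtype.ext ?_⟩
      rw [Subgroup.mem_centralizer_singleton_iff] at hc
      have h1 := sq_one_of_comm_invol hB hK zG c hzGo hc
      simpa [pow_two] using h1
    have hCeq := P.is_maximal' hCp hPle
    have haP : a ∈ (P : Subgroup G) := by
      rw [← hCeq, Subgroup.mem_centralizer_singleton_iff, hadef, ← hg]
      have hst : s * t = t * s := (hB.cent_t s).2 (Or.inr ⟨1, K.one_mem, (one_mul s).symm⟩)
      calc g * s * g⁻¹ * (g * t * g⁻¹) = g * (s * t) * g⁻¹ := by group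
        _ = g * (t * s) * g⁻¹ := by rw [hst]
        _ = g * t * g⁻¹ * (g * s * g⁻¹) := by group
    obtain ⟨h, hh⟩ := isConj_iff.1 (hB.hconj zG a hzGo hao)
    obtain ⟨⟨⟨n, hn⟩, ⟨b, hb⟩⟩, hnb⟩ := (hcompl.existsUnique h).exists
    have hnb' : n * b = h := hnb
    have hbz : b * zG * b⁻¹ = zG := by
      rw [hzGc b hb, mul_inv_cancel_right]
    have ha2 : a = n * zG * n⁻¹ := by
      rw [← hh, ← hnb']
      calc n * b * zG * (n * b)⁻¹ = n * (b * zG * b⁻¹) * n⁻¹ := by group
        _ = n * zG * n⁻¹ := by rw [hbz]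
    have h1 : a * zG⁻¹ ∈ N := by
      rw [ha2]
      have h5 : n * zG * n⁻¹ * zG⁻¹ = n * (zG * n⁻¹ * zG⁻¹) := by group
      rw [h5]
      exact N.mul_mem hn (hNn.conj_mem _ (N.inv_mem hn) zG)
    have h2 : a * zG⁻¹ ∈ (P : Subgroup G) :=
      (P : Subgroup G).mul_mem haP ((P : Subgroup G).inv_mem hzGP)
    have h3 : a * zG⁻¹ = 1 := by
      have hdisj := hcompl.disjoint
      have h4 : a * zG⁻¹ ∈ N ⊓ (P : Subgroup G) := ⟨h1, h2⟩
      rw [hdisj.eq_bot] at h4
      exact h4
    exact haz (mul_inv_eq_one.1 h3)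
  obtain ⟨e⟩ := Cfsg.Agent.S3277.result t hB.ht hC4 hCe hnc hne
  rw [Nat.card_congr e.toEquiv, nat_card_alternatingGroup]
  simp [Nat.factorial]

theorem main : CaseTwo.{u} := by
  intro G _ _ t K s hbsw hK2
  have hB : Basic t K s 2 := by
    have := Cfsg.Agent.Lib.Helper77.BSWBasicOf.main G t K s hbsw
    rwa [hK2] at this
  have hyp := Cfsg.Agent.Lib.Helper77.BSWBridge.hyp_of_bsw hbsw
  have ht1 : t ≠ 1 := by
    intro h
    have := hB.ht
    rw [h] at this
    simp at this
  have hK : ∀ x ∈ K, x = 1 ∨ x = t := mem_card_two K hK2 t hB.htK ht1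
  by_cases hN : (Subgroup.centralizer ({t} : Set G)).Normal
  · -- `|G| = 12`
    have hG := card_twelve hbsw hB hK hK2 hN
    have h3p : Fact (Nat.Prime 3) := ⟨Nat.prime_three⟩
    obtain ⟨x, hx⟩ := exists_prime_orderOf_dvd_card' (G := G) 3 (by rw [hG]; norm_num)
    have hQ : Nat.card (Subgroup.zpowers x) = 3 := by rw [Nat.card_zpowers, hx]
    obtain ⟨hcent, hnorm⟩ := analysis hB hK 3 Nat.prime_three (by norm_num) (Subgroup.zpowers x) hQ
      (Or.inl ⟨hG, rfl⟩)
    refine ⟨Subgroup.zpowers x, ⊥, ?_, hcent, ?_, ?_, ?_, ?_, ?_⟩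
    · rw [hG, hQ]
    · exact ⟨⟨fun a b => by rw [Subsingleton.elim a b]⟩⟩
    · rw [Subgroup.card_bot, hQ]
    · exact inf_bot_eq _
    · rw [sup_bot_eq]
      symm
      apply Subgroup.eq_of_le_of_card_ge Subgroup.le_normalizer
      rw [hnorm, hQ]
    · intro X hX hX1
      exact absurd (le_bot_iff.1 hX) hX1
  · -- `|G| = 60`
    have hG := card_sixty hbsw hB hK hK2 hN
    have h5p : Fact (Nat.Prime 5) := ⟨Nat.prime_five⟩
    have h2p : Fact (Nat.Prime 2) := ⟨Nat.prime_two⟩
    obtain ⟨x, hx⟩ := exists_prime_orderOf_dvd_card' (G := G) 5 (by rw [hG]; norm_num)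
    have hQ₀ : Nat.card (Subgroup.zpowers x) = 5 := by rw [Nat.card_zpowers, hx]
    obtain ⟨-, hnorm₀⟩ := analysis hB hK 5 Nat.prime_five (by norm_num) (Subgroup.zpowers x) hQ₀
      (Or.inr ⟨hG, rfl⟩)
    -- an involution in `N(Q₀)`
    obtain ⟨⟨d, hd⟩, hdo⟩ := exists_prime_orderOf_dvd_card'
      (G := Subgroup.normalizer ((Subgroup.zpowers x : Subgroup G) : Set G)) 2
      (by rw [hnorm₀]; norm_num)
    have hdo' : orderOf d = 2 := by rw [← hdo]; exact (Subgroup.orderOf_mk d hd).symm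
    obtain ⟨g, hg⟩ := isConj_iff.1 (hB.hconj t d hB.ht hdo')
    -- the conjugate subgroup
    obtain ⟨Q, hQdef⟩ : ∃ Q : Subgroup G,
        Q = (Subgroup.zpowers x).map (MulAut.conj g⁻¹).toMonoidHom := ⟨_, rfl⟩
    have hQ : Nat.card Q = 5 := by
      rw [hQdef, Subgroup.card_map_of_injective (MulAut.conj g⁻¹).injective, hQ₀]
    have hQmem : ∀ y : G, y ∈ Q ↔ g * y * g⁻¹ ∈ Subgroup.zpowers x := by
      intro y
      rw [hQdef, Subgroup.mem_map_equiv]
      simp
    have htN : t ∈ Subgroup.normalizer (Q : Set G) := by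
      rw [Subgroup.mem_normalizer_iff]
      intro y
      rw [hQmem, hQmem, (Subgroup.mem_normalizer_iff.1 hd) (g * y * g⁻¹), ← hg]
      have h5 : g * t * g⁻¹ * (g * y * g⁻¹) * (g * t * g⁻¹)⁻¹ = g * (t * y * t⁻¹) * g⁻¹ := by
        group
      rw [h5]
    obtain ⟨hcent, hnorm⟩ := analysis hB hK 5 Nat.prime_five (by norm_num) Q hQ
      (Or.inr ⟨hG, rfl⟩)
    have hKN : K ≤ Subgroup.normalizer (Q : Set G) := by
      intro y hy
      rcases hK y hy with rfl | rfl
      · exact Subgroup.one_mem _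
      · exact htN
    have hKne : K ≠ ⊥ := by
      intro h
      rw [h, Subgroup.card_bot] at hK2
      omega
    refine ⟨Q, K, ?_, hcent, ?_, ?_, ?_, ?_, ?_⟩
    · rw [hG, hQ]
    · exact ⟨⟨fun a b => Subtype.ext (hbsw.hKab a a.2 b b.2)⟩⟩
    · rw [hK2, hQ]
    · exact (Subgroup.disjoint_of_coprime_natCard (by rw [hQ, hK2]; norm_num)).eq_bot
    · symm
      apply Subgroup.eq_of_le_of_card_ge (sup_le Subgroup.le_normalizer hKN)
      rw [hnorm]
      have h5 : 5 ∣ Nat.card (Q ⊔ K : Subgroup G) := hQ ▸ Subgroup.card_dvd_of_le le_sup_left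
      have h2 : 2 ∣ Nat.card (Q ⊔ K : Subgroup G) := hK2 ▸ Subgroup.card_dvd_of_le le_sup_right
      have hpos : 0 < Nat.card (Q ⊔ K : Subgroup G) := Nat.card_pos
      omega
    · intro X hX hX1
      refine ⟨?_, s, hbsw.hs, hbsw.hsK, hbsw.hinv, ?_⟩
      · rw [hyp.normalizer_eq_H hX hX1, hyp.normalizer_eq_H le_rfl hKne]
      · rw [hyp.normalizer_eq_H le_rfl hKne, hbsw.hH]

end Cfsg.Agent.Lib.Helper32.BSWCaseTwo
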