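import Mathlib
import Cfsg.Agent.Lib.Helper23.HNStmt
import Cfsg.Agent.Lib.Helper65.NilCoprime

/-!
# S1438 piece FUSH (call by helper23): fusion in a Hall subgroup
-/

set_option autoImplicit false

namespace Cfsg.Agent.Lib.Helper32.HNFUSH

open Cfsg.Agent.Lib.Helper23.HNStmt

open scoped Pointwise

universe u

variable {X : Type u} [Group X]

theorem mem_map_conj {H : Subgroup X} {a g : X} :
    g ∈ H.map (MulAut.conj a).toMonoidHom ↔ a⁻¹ * g * a ∈ H := by
  constructor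
  · rintro ⟨k, hk, rfl⟩
    have e : a⁻¹ * (MulAut.conj a).toMonoidHom k * a = k := by
      show a⁻¹ * (a * k * a⁻¹) * a = k
      group
    rw [e]; exact hk
  · intro h
    refine ⟨a⁻¹ * g * a, h, ?_⟩
    show a * (a⁻¹ * g * a) * a⁻¹ = g
    group

theorem mem_norm_of_map_eq {H : Subgroup X} {a b : X}
    (h : H.map (MulAut.conj a).toMonoidHom = H.map (MulAut.conj b).toMonoidHom) :
    b⁻¹ * a ∈ Subgroup.normalizer (H : Set X) := by
  rw [Subgroup.mem_normalizer_iff]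
  intro g
  have k1 : a * g * a⁻¹ ∈ H.map (MulAut.conj a).toMonoidHom ↔
      a * g * a⁻¹ ∈ H.map (MulAut.conj b).toMonoidHom := by rw [h]
  rw [mem_map_conj, mem_map_conj] at k1
  have e1 : a⁻¹ * (a * g * a⁻¹) * a = g := by group
  have e2 : b⁻¹ * (a * g * a⁻¹) * b = b⁻¹ * a * g * (b⁻¹ * a)⁻¹ := by group
  rw [e1, e2] at k1
  exact k1

theorem relIndex_eq [Finite X] (H F : Subgroup X) [F.Normal] :
    H.relIndex (H ⊔ F) = H.relIndex F := by
  have h1 := Subgroup.relIndex_mul_relIndex ⊥ H (H ⊔ F) bot_le le_sup_left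
  rw [Subgroup.relIndex_bot_left, Subgroup.relIndex_bot_left] at h1
  have h2 := Subgroup.relIndex_mul_relIndex ⊥ F (H ⊔ F) bot_le le_sup_right
  rw [Subgroup.relIndex_bot_left, Subgroup.relIndex_bot_left] at h2
  have h3 : F.relIndex (H ⊔ F) = F.relIndex H := by rw [Subgroup.relIndex_sup_right]
  have h4 := Subgroup.relIndex_mul_relIndex ⊥ (H ⊓ F) H bot_le inf_le_left
  rw [Subgroup.relIndex_bot_left, Subgroup.relIndex_bot_left, Subgroup.inf_relIndex_left] at h4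
  have h5 := Subgroup.relIndex_mul_relIndex ⊥ (H ⊓ F) F bot_le inf_le_right
  rw [Subgroup.relIndex_bot_left, Subgroup.relIndex_bot_left, Subgroup.inf_relIndex_right] at h5
  have hpos : 0 < Nat.card H := Nat.card_pos
  apply Nat.eq_of_mul_eq_mul_left hpos
  calc Nat.card H * H.relIndex (H ⊔ F) = Nat.card F * F.relIndex H := by rw [h1, ← h2, h3]
    _ = (Nat.card ↥(H ⊓ F) * H.relIndex F) * F.relIndex H := by rw [h5]
    _ = (Nat.card ↥(H ⊓ F) * F.relIndex H) * H.relIndex F := by ring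
    _ = Nat.card H * H.relIndex F := by rw [h4]

theorem step3 [Finite X] (hU : HallNilUniq.{u}) (H F : Subgroup X) [hFn : F.Normal]
    (hFnil : Group.IsNilpotent F) (hcop : (Nat.card H).Coprime (H.relIndex F))
    (x f : X) (hx : x ∈ H) (hf : f ∈ F) (hz : f * x * f⁻¹ ∈ H) :
    ∃ a ∈ H, a * x * a⁻¹ = f * x * f⁻¹ := by
  classical
  have hAF : H ⊓ F ≤ F := inf_le_right
  have hAH : H ⊓ F ≤ H := inf_le_left
  obtain ⟨nA, hnA⟩ : ∃ nA : ℕ, nA = Nat.card ↥(H ⊓ F) := ⟨_, rfl⟩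
  obtain ⟨idx, hidx⟩ : ∃ idx : ℕ, idx = (H ⊓ F).relIndex F := ⟨_, rfl⟩
  have hidx' : idx = H.relIndex F := by rw [hidx, Subgroup.inf_relIndex_right]
  have hnAdvd : nA ∣ Nat.card H := by rw [hnA]; exact Subgroup.card_dvd_of_le hAH
  have hc : nA.Coprime idx := by
    rw [hidx']; exact Nat.Coprime.coprime_dvd_left hnAdvd hcop
  have hmul : nA * idx = Nat.card F := by
    have h := Subgroup.relIndex_mul_relIndex ⊥ (H ⊓ F) F bot_le hAF
    rw [Subgroup.relIndex_bot_left, Subgroup.relIndex_bot_left] at h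
    rw [hnA, hidx]; exact h
  have hAnorm : ∀ g ∈ F, ∀ a ∈ H ⊓ F, g * a * g⁻¹ ∈ H ⊓ F := by
    intro g hg a ha
    have hB : (H ⊓ F).map (MulAut.conj g).toMonoidHom ≤ F := by
      rintro _ ⟨k, hk, rfl⟩
      exact hFn.conj_mem k (hAF hk) g
    have hcard : Nat.card ↥(H ⊓ F) = Nat.card ↥((H ⊓ F).map (MulAut.conj g).toMonoidHom) :=
      (Subgroup.card_map_of_injective (MulAut.conj g).injective).symm
    have hAB := hU F (H ⊓ F) ((H ⊓ F).map (MulAut.conj g).toMonoidHom) hFnil hAF hB hcard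
      (by rw [← hnA, ← hidx]; exact hc)
    rw [hAB]
    exact ⟨a, ha, rfl⟩
  have hAn : ((H ⊓ F).subgroupOf F).Normal := by
    constructor
    intro n hn g
    rw [Subgroup.mem_subgroupOf] at hn ⊢
    exact hAnorm g g.2 n hn
  have hfidx : f ^ idx ∈ H ⊓ F := by
    have h := Subgroup.pow_index_mem ((H ⊓ F).subgroupOf F) (⟨f, hf⟩ : ↥F)
    rw [Subgroup.mem_subgroupOf] at h
    rw [hidx]
    exact h
  have hfcard : f ^ Nat.card F = 1 := by
    have h : orderOf (⟨f, hf⟩ : ↥F) ∣ Nat.card ↥F := orderOf_dvd_natCard _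
    rw [Subgroup.orderOf_mk] at h
    exact orderOf_dvd_iff_pow_eq_one.mp h
  have hfn : (f ^ nA) ^ idx = 1 := by rw [← pow_mul, hmul]; exact hfcard
  have hb : (1 : ℤ) = (nA : ℤ) * Nat.gcdA nA idx + (idx : ℤ) * Nat.gcdB nA idx := by
    have h3 := Nat.gcd_eq_gcd_ab nA idx
    rw [Nat.Coprime.gcd_eq_one hc] at h3
    exact_mod_cast h3
  obtain ⟨a, r, haA, hrF, hr_idx, hfe⟩ :
      ∃ a r : X, a ∈ H ⊓ F ∧ r ∈ F ∧ r ^ idx = 1 ∧ f = a * r := by
    refine ⟨(f ^ idx) ^ (Nat.gcdB nA idx), (f ^ nA) ^ (Nat.gcdA nA idx), ?_, ?_, ?_, ?_⟩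
    · exact Subgroup.zpow_mem _ hfidx _
    · exact Subgroup.zpow_mem _ (Subgroup.pow_mem _ hf _) _
    · have e : ((f ^ nA) ^ (Nat.gcdA nA idx)) ^ idx = ((f ^ nA) ^ idx) ^ (Nat.gcdA nA idx) := by
        rw [← zpow_natCast ((f ^ nA) ^ (Nat.gcdA nA idx)) idx, ← zpow_natCast (f ^ nA) idx,
          ← zpow_mul, ← zpow_mul, mul_comm]
      rw [e, hfn, one_zpow]
    · rw [← zpow_natCast f idx, ← zpow_natCast f nA, ← zpow_mul, ← zpow_mul, ← zpow_add,
        add_comm, ← hb, zpow_one]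
  have haH : a ∈ H := hAH haA
  have hrx : r * x * r⁻¹ ∈ H := by
    have e : r * x * r⁻¹ = a⁻¹ * (f * x * f⁻¹) * a := by rw [hfe]; group
    rw [e]; exact H.mul_mem (H.mul_mem (H.inv_mem haH) hz) haH
  obtain ⟨c, hcdef⟩ : ∃ c : X, c = r * x * r⁻¹ * x⁻¹ := ⟨_, rfl⟩
  have hcH : c ∈ H := by rw [hcdef]; exact H.mul_mem hrx (H.inv_mem hx)
  have hr'F : x * r⁻¹ * x⁻¹ ∈ F := hFn.conj_mem r⁻¹ (F.inv_mem hrF) x
  have hcF : c ∈ F := by
    have e : c = r * (x * r⁻¹ * x⁻¹) := by rw [hcdef]; group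
    rw [e]; exact F.mul_mem hrF hr'F
  have hcA : c ∈ H ⊓ F := ⟨hcH, hcF⟩
  have hc_nA : c ^ nA = 1 := by
    have h : orderOf (⟨c, hcA⟩ : ↥(H ⊓ F)) ∣ Nat.card ↥(H ⊓ F) := orderOf_dvd_natCard _
    rw [Subgroup.orderOf_mk] at h
    rw [hnA]
    exact orderOf_dvd_iff_pow_eq_one.mp h
  have hord_r : orderOf r ∣ idx := orderOf_dvd_of_pow_eq_one hr_idx
  have hord_c : orderOf c ∣ nA := orderOf_dvd_of_pow_eq_one hc_nA
  have hcomm : r * c = c * r := by
    have := hFnil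
    have h2 := Cfsg.Agent.Lib.Helper65.NilCoprime.commute_of_coprime ↥F ⟨r, hrF⟩ ⟨c, hcF⟩
      (isOfFinOrder_of_finite _) (isOfFinOrder_of_finite _)
      (by
        rw [Subgroup.orderOf_mk, Subgroup.orderOf_mk]
        exact Nat.Coprime.coprime_dvd_left hord_r (Nat.Coprime.coprime_dvd_right hord_c hc.symm))
    exact congrArg Subtype.val h2
  have e1 : x * r⁻¹ * x⁻¹ = r⁻¹ * c := by rw [hcdef]; group
  have e2 : (x * r⁻¹ * x⁻¹) ^ idx = 1 := by
    rw [conj_pow, inv_pow, hr_idx]; group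
  have hcc : Commute r⁻¹ c := Commute.inv_left (show Commute r c from hcomm)
  have e3 : c ^ idx = 1 := by
    rw [e1, hcc.mul_pow, inv_pow, hr_idx, inv_one, one_mul] at e2
    exact e2
  have hc1 : c = 1 := by
    have h1 : orderOf c ∣ Nat.gcd nA idx := Nat.dvd_gcd hord_c (orderOf_dvd_of_pow_eq_one e3)
    rw [Nat.Coprime.gcd_eq_one hc] at h1
    exact orderOf_eq_one_iff.mp (Nat.dvd_one.mp h1)
  have hrx1 : r * x * r⁻¹ = x := by
    rw [hcdef] at hc1
    exact mul_inv_eq_one.mp hc1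
  refine ⟨a, haH, ?_⟩
  rw [hfe]
  have e4 : a * r * x * (a * r)⁻¹ = a * (r * x * r⁻¹) * a⁻¹ := by group
  rw [e4, hrx1]

theorem step2 [Finite X] (hU : HallNilUniq.{u}) (S F D H : Subgroup X) [F.Normal]
    (hSn : S.Normal) (hSD : S ≤ D)
    (hDnil : Group.IsNilpotent ↥(D.map (QuotientGroup.mk' F))) (hHS : H ≤ S)
    (hcop : (Nat.card H).Coprime (H.relIndex S)) (s : X) :
    H.map (MulAut.conj s).toMonoidHom ≤ H ⊔ F := by
  classical
  have hle : S.map (QuotientGroup.mk' F) ≤ D.map (QuotientGroup.mk' F) := Subgroup.map_mono hSD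
  have hNnil : Group.IsNilpotent ↥(S.map (QuotientGroup.mk' F)) := by
    have := hDnil
    exact Group.nilpotent_of_mulEquiv (Subgroup.subgroupOfEquivOfLe hle)
  have hA : H.map (QuotientGroup.mk' F) ≤ S.map (QuotientGroup.mk' F) := Subgroup.map_mono hHS
  have hB : (H.map (MulAut.conj s).toMonoidHom).map (QuotientGroup.mk' F) ≤
      S.map (QuotientGroup.mk' F) := by
    apply Subgroup.map_mono
    rintro _ ⟨k, hk, rfl⟩
    exact hSn.conj_mem k (hHS hk) s
  have hBeq : (H.map (MulAut.conj s).toMonoidHom).map (QuotientGroup.mk' F) =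
      (H.map (QuotientGroup.mk' F)).map
        (MulAut.conj ((QuotientGroup.mk' F) s)).toMonoidHom := by
    rw [Subgroup.map_map, Subgroup.map_map]
    congr 1
  have hcard : Nat.card ↥(H.map (QuotientGroup.mk' F)) =
      Nat.card ↥((H.map (MulAut.conj s).toMonoidHom).map (QuotientGroup.mk' F)) := by
    rw [hBeq]
    exact (Subgroup.card_map_of_injective
      (MulAut.conj ((QuotientGroup.mk' F) s)).injective).symm
  have hcop' : (Nat.card ↥(H.map (QuotientGroup.mk' F))).Coprime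
      ((H.map (QuotientGroup.mk' F)).relIndex (S.map (QuotientGroup.mk' F))) := by
    have h1 : Nat.card ↥(H.map (QuotientGroup.mk' F)) ∣ Nat.card H :=
      Subgroup.card_map_dvd H (QuotientGroup.mk' F)
    have h2 : (H.map (QuotientGroup.mk' F)).relIndex (S.map (QuotientGroup.mk' F)) ∣
        H.relIndex S := by
      rw [← Subgroup.relIndex_comap, Subgroup.comap_map_eq, QuotientGroup.ker_mk']
      exact Subgroup.relIndex_dvd_of_le_left S le_sup_left
    exact Nat.Coprime.coprime_dvd_left h1 (Nat.Coprime.coprime_dvd_right h2 hcop)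
  have heq := hU (S.map (QuotientGroup.mk' F)) (H.map (QuotientGroup.mk' F))
    ((H.map (MulAut.conj s).toMonoidHom).map (QuotientGroup.mk' F)) hNnil hA hB hcard hcop'
  intro g hg
  have h1 : (QuotientGroup.mk' F) g ∈ H.map (QuotientGroup.mk' F) := by
    rw [heq]; exact Subgroup.mem_map_of_mem _ hg
  obtain ⟨h, hh, hhg⟩ := h1
  have h2 : h⁻¹ * g ∈ F := QuotientGroup.eq.mp hhg
  have e : g = h * (h⁻¹ * g) := by group
  rw [e]
  exact Subgroup.mul_mem _ (Subgroup.mem_sup_left hh) (Subgroup.mem_sup_right h2)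

theorem main (hU : HallNilUniq.{u}) (hC : HallConj.{u}) : FusHall.{u} := by
  intro X _ _ hsol S F D H hFn hSn hFS hSD hFnil hFcop hDnil hHS hcop x hx m hy
  classical
  have := hsol
  have hB1 : H.map (MulAut.conj m).toMonoidHom ≤ S := by
    rintro _ ⟨k, hk, rfl⟩
    exact hSn.conj_mem k (hHS hk) m
  have hcard1 : Nat.card H = Nat.card ↥(H.map (MulAut.conj m).toMonoidHom) :=
    (Subgroup.card_map_of_injective (MulAut.conj m).injective).symm
  obtain ⟨s, hs, hs_eq⟩ := hC S H (H.map (MulAut.conj m).toMonoidHom) inferInstance hHS hB1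
    hcard1 hcop
  have hB2 : H.map (MulAut.conj s).toMonoidHom ≤ H ⊔ F :=
    step2 hU S F D H hSn hSD hDnil hHS hcop s
  have hTS : H ⊔ F ≤ S := sup_le hHS hFS
  have hcop2 : (Nat.card H).Coprime (H.relIndex (H ⊔ F)) := by
    have h : H.relIndex (H ⊔ F) ∣ H.relIndex S :=
      Dvd.intro _ (Subgroup.relIndex_mul_relIndex H (H ⊔ F) S le_sup_left hTS)
    exact Nat.Coprime.coprime_dvd_right h hcop
  have hcard2 : Nat.card H = Nat.card ↥(H.map (MulAut.conj s).toMonoidHom) :=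
    (Subgroup.card_map_of_injective (MulAut.conj s).injective).symm
  obtain ⟨t, ht, ht_eq⟩ := hC (H ⊔ F) H (H.map (MulAut.conj s).toMonoidHom) inferInstance
    le_sup_left hB2 hcard2 hcop2
  have hmt : H.map (MulAut.conj m).toMonoidHom = H.map (MulAut.conj t).toMonoidHom :=
    hs_eq.trans ht_eq
  have hn1 : t⁻¹ * m ∈ Subgroup.normalizer (H : Set X) := mem_norm_of_map_eq hmt
  obtain ⟨x1, hx1def⟩ : ∃ x1 : X, x1 = t⁻¹ * m * x * (t⁻¹ * m)⁻¹ := ⟨_, rfl⟩
  have hx1 : x1 ∈ H := by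
    rw [hx1def]; exact (Subgroup.mem_normalizer_iff.mp hn1 x).mp hx
  have ht' : t ∈ (H : Set X) * (F : Set X) := by
    rw [← Subgroup.mul_normal]; exact ht
  obtain ⟨h, hh, f, hf, htf⟩ := Set.mem_mul.mp ht'
  have hz : f * x1 * f⁻¹ ∈ H := by
    have e : f * x1 * f⁻¹ = h⁻¹ * (m * x * m⁻¹) * h := by rw [hx1def, ← htf]; group
    rw [e]; exact H.mul_mem (H.mul_mem (H.inv_mem hh) hy) hh
  have hcop3 : (Nat.card H).Coprime (H.relIndex F) := by
    rw [← relIndex_eq H F]; exact hcop2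
  obtain ⟨a, haH, hae⟩ := step3 hU H F hFnil hcop3 x1 f hx1 hf hz
  refine ⟨h * a * (t⁻¹ * m), ?_, ?_⟩
  · exact Subgroup.mul_mem _
      (Subgroup.mul_mem _ (Subgroup.le_normalizer hh) (Subgroup.le_normalizer haH)) hn1
  · have e1 : h * a * (t⁻¹ * m) * x * (h * a * (t⁻¹ * m))⁻¹ = h * (a * x1 * a⁻¹) * h⁻¹ := by
      rw [hx1def]; group
    rw [e1, hae, hx1def, ← htf]; group

end Cfsg.Agent.Lib.Helper32.HNFUSH
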