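import Cfsg.Agent.Lib.Helper32.NBEnd

/-! A second endgame for the key lemma, valid for every odd prime: instead of a diagonal
element one uses the subgroup generated by the elements of `U₂` inverted by the involution
`t`, on which the lifted transvection acts quadratically.  The stability hypothesis is the
weak form `WStable`. -/

set_option autoImplicit false
set_option linter.unusedSectionVars false
set_option linter.unusedVariables false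

namespace Cfsg.Agent.Lib.Helper32.NBEnd2

open Cfsg Matrix
open Cfsg.Agent.Lib.Helper32.NBDef
open Cfsg.Agent.Lib.Helper32.QdMat
open Cfsg.Agent.Lib.Helper32.NBEnd

/-- weak stability: an element normalizing a `p`-subgroup `U` and acting quadratically on it
lies in a subgroup invariant under `N(U)` all of whose elements have a `p`-power
centralizing `U`. -/
def WStable (p : ℕ) (X : Type*) [Group X] : Prop :=
  ∀ U : Subgroup X, IsPGroup p U → ∀ a ∈ Subgroup.normalizer (U : Set X),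
    (∀ u ∈ U, a * (a * u * a⁻¹ * u⁻¹) * a⁻¹ = a * u * a⁻¹ * u⁻¹) →
    ∃ D : Subgroup X, a ∈ D ∧
      (∀ n ∈ Subgroup.normalizer (U : Set X), ∀ d ∈ D, n * d * n⁻¹ ∈ D) ∧
      ∀ d ∈ D, ∃ k : ℕ, ∀ u ∈ U, d ^ p ^ k * u = u * d ^ p ^ k

variable {X : Type*} [Group X] {p : ℕ} [Fact p.Prime]
variable {Z₁ U₂ : Subgroup X} {ψ : X → (Fin 2 → ZMod p)}

/-- the elements of `U₂` inverted by `t` -/
def Inv (U₂ : Subgroup X) (t : X) : Set X := {e | e ∈ U₂ ∧ t * e * t⁻¹ = e⁻¹}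

theorem conj_inv' (g y : X) : g * y⁻¹ * g⁻¹ = (g * y * g⁻¹)⁻¹ := by group

theorem inv_mem_Inv {t e : X} (he : e ∈ Inv U₂ t) : e⁻¹ ∈ Inv U₂ t := by
  refine ⟨U₂.inv_mem he.1, ?_⟩
  have h1 : t * e⁻¹ * t⁻¹ = (t * e * t⁻¹)⁻¹ := by group
  rw [h1, he.2]

theorem closure_Inv_le {t : X} : Subgroup.closure (Inv U₂ t) ≤ U₂ :=
  (Subgroup.closure_le _).mpr (fun e he => he.1)

theorem inv_conj {g t : X} {M : Matrix.SpecialLinearGroup (Fin 2) (ZMod p)}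
    (h : Acts U₂ ψ g M) (hc : CommT U₂ t g) :
    ∀ e ∈ Inv U₂ t, g * e * g⁻¹ ∈ Inv U₂ t := by
  intro e he
  refine ⟨(h e he.1).1, ?_⟩
  rw [hc e he.1, he.2]
  group

theorem conj_closure {g t : X} {M : Matrix.SpecialLinearGroup (Fin 2) (ZMod p)}
    (h : Acts U₂ ψ g M) (hc : CommT U₂ t g) :
    ∀ y ∈ Subgroup.closure (Inv U₂ t), g * y * g⁻¹ ∈ Subgroup.closure (Inv U₂ t) := by
  intro y hy
  induction hy using Subgroup.closure_induction with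
  | mem x hx => exact Subgroup.subset_closure (inv_conj h hc x hx)
  | one =>
    rw [mul_one, mul_inv_cancel]
    exact Subgroup.one_mem _
  | mul y₁ y₂ _ _ ih₁ ih₂ =>
    have e : g * (y₁ * y₂) * g⁻¹ = (g * y₁ * g⁻¹) * (g * y₂ * g⁻¹) := by group
    rw [e]
    exact Subgroup.mul_mem _ ih₁ ih₂
  | inv y _ ih =>
    have e : g * y⁻¹ * g⁻¹ = (g * y * g⁻¹)⁻¹ := by group
    rw [e]
    exact Subgroup.inv_mem _ ih

theorem ctx_mem_normalizer_closure [Finite X] (C : Ctx p Z₁ U₂ ψ) {g t : X}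
    {M : Matrix.SpecialLinearGroup (Fin 2) (ZMod p)} (h : Acts U₂ ψ g M)
    (hc : CommT U₂ t g) :
    g ∈ Subgroup.normalizer ((Subgroup.closure (Inv U₂ t) : Subgroup X) : Set X) := by
  have hi := C.acts_inv h
  have hci : CommT U₂ t g⁻¹ := commT_inv hc (fun x hx => (hi x hx).1)
  rw [Subgroup.mem_normalizer_iff]
  intro x
  refine ⟨fun hx => conj_closure h hc x hx, fun hx => ?_⟩
  have h1 := conj_closure hi hci _ hx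
  have e : g⁻¹ * (g * x * g⁻¹) * g⁻¹⁻¹ = x := by group
  rwa [e] at h1

theorem ctx_psi_pow (C : Ctx p Z₁ U₂ ψ) {x : X} (hx : x ∈ U₂) (n : ℕ) :
    ψ (x ^ n) = n • ψ x := by
  induction n with
  | zero =>
    rw [pow_zero, zero_smul]
    exact C.psi_one
  | succ n ih => rw [pow_succ, C.hadd _ (U₂.pow_mem hx n) _ hx, ih, succ_nsmul]

/-- the preimage of a line is abelian -/
theorem ctx_estar_comm (C : Ctx p Z₁ U₂ ψ) {e f : X} (he : e ∈ U₂) (hf : f ∈ U₂)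
    (he1 : ψ e 1 = 0) (hf1 : ψ f 1 = 0) : e * f = f * e := by
  obtain ⟨u₀, hu₀, hψ⟩ := C.hsurj ![1, 0]
  have key : ∀ e ∈ U₂, ψ e 1 = 0 → ∃ n : ℕ, ∃ z ∈ Z₁, e = u₀ ^ n * z := by
    intro e he he1
    refine ⟨(ψ e 0).val, (u₀ ^ (ψ e 0).val)⁻¹ * e, ?_, by group⟩
    refine C.mem_Z (U₂.pow_mem hu₀ _) he ?_
    rw [ctx_psi_pow C hu₀, hψ]
    ext i
    fin_cases i
    · simp
    · simp [he1]
  obtain ⟨n, z, hz, rfl⟩ := key e he he1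
  obtain ⟨m, z', hz', rfl⟩ := key f hf hf1
  have c1 : Commute (u₀ ^ n) (u₀ ^ m) := (Commute.refl u₀).pow_pow n m
  have c2 : Commute (u₀ ^ n) z' := C.hcen _ (U₂.pow_mem hu₀ n) z' hz'
  have c3 : Commute z (u₀ ^ m) :=
    (show Commute (u₀ ^ m) z from C.hcen _ (U₂.pow_mem hu₀ m) z hz).symm
  have c4 : Commute z z' := C.hcen z (C.hZU hz) z' hz'
  exact ((c1.mul_right c2).mul_left (c3.mul_right c4)).eq

/-- the transvection centralizes the commutators with elements inverted by `t` -/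
theorem ctx_quadI_base [Finite X] (C : Ctx p Z₁ U₂ ψ) (hp2 : p ≠ 2) {a t : X} {c : ZMod p}
    (ha : Acts U₂ ψ a (upp c)) (ht : Acts U₂ ψ t negOne) (htc : ∀ z ∈ Z₁, t * z = z * t)
    (hcomm : CommT U₂ t a) :
    ∀ x ∈ Inv U₂ t, a * (x⁻¹ * (a * x * a⁻¹)) * a⁻¹ = x⁻¹ * (a * x * a⁻¹) := by
  obtain ⟨k, hk⟩ := C.half hp2
  rintro x ⟨hx, hxI⟩
  obtain ⟨hx', hψx'⟩ := ha x hx
  have hx'I : t * (a * x * a⁻¹) * t⁻¹ = (a * x * a⁻¹)⁻¹ := by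
    rw [hcomm x hx, hxI]
    group
  have hv : x⁻¹ * (a * x * a⁻¹) ∈ U₂ := U₂.mul_mem (U₂.inv_mem hx) hx'
  have hψv : ψ (x⁻¹ * (a * x * a⁻¹)) = (upp c).1 *ᵥ ψ x - ψ x := by
    rw [C.hadd _ (U₂.inv_mem hx) _ hx', hψx', C.psi_inv hx]
    abel
  obtain ⟨hav, hψav⟩ := ha _ hv
  have hψav' : ψ (a * (x⁻¹ * (a * x * a⁻¹)) * a⁻¹) = ψ (x⁻¹ * (a * x * a⁻¹)) := by
    rw [hψav, hψv, upp_quad]
  have hz₁ : (x⁻¹ * (a * x * a⁻¹))⁻¹ * (a * (x⁻¹ * (a * x * a⁻¹)) * a⁻¹) ∈ Z₁ :=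
    C.mem_Z hv hav hψav'.symm
  have hx''I : t * (a * (a * x * a⁻¹) * a⁻¹) * t⁻¹ = (a * (a * x * a⁻¹) * a⁻¹)⁻¹ := by
    rw [hcomm _ hx', hx'I]
    exact conj_inv' a _
  have e0 : a * (a * x * a⁻¹) * a⁻¹ = (a * x * a⁻¹) * (x⁻¹ * (a * x * a⁻¹)) *
      ((x⁻¹ * (a * x * a⁻¹))⁻¹ * (a * (x⁻¹ * (a * x * a⁻¹)) * a⁻¹)) := by group
  have e1 : a * (x⁻¹ * (a * x * a⁻¹)) * a⁻¹ = (x⁻¹ * (a * x * a⁻¹)) *
      ((x⁻¹ * (a * x * a⁻¹))⁻¹ * (a * (x⁻¹ * (a * x * a⁻¹)) * a⁻¹)) := by group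
  rw [e0] at hx''I
  rw [e1]
  generalize (x⁻¹ * (a * x * a⁻¹))⁻¹ * (a * (x⁻¹ * (a * x * a⁻¹)) * a⁻¹) = z₁ at hz₁ hx''I ⊢
  generalize a * x * a⁻¹ = x' at hx' hx'I hx''I ⊢
  have hq : x'⁻¹ * x * x'⁻¹ ∈ U₂ :=
    U₂.mul_mem (U₂.mul_mem (U₂.inv_mem hx') hx) (U₂.inv_mem hx')
  have h1 : t * (x' * (x⁻¹ * x') * z₁) * t⁻¹ = (x'⁻¹ * x * x'⁻¹) * z₁ := by
    calc t * (x' * (x⁻¹ * x') * z₁) * t⁻¹
        = (t * x' * t⁻¹) * (t * x * t⁻¹)⁻¹ * (t * x' * t⁻¹) * ((t * z₁) * t⁻¹) := by group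
      _ = x'⁻¹ * (x⁻¹)⁻¹ * x'⁻¹ * ((z₁ * t) * t⁻¹) := by rw [hx'I, hxI, htc z₁ hz₁]
      _ = (x'⁻¹ * x * x'⁻¹) * z₁ := by group
  have h2 : (x' * (x⁻¹ * x') * z₁)⁻¹ = z₁⁻¹ * (x'⁻¹ * x * x'⁻¹) := by group
  have h3 : (x'⁻¹ * x * x'⁻¹) * z₁ = z₁⁻¹ * (x'⁻¹ * x * x'⁻¹) := by
    rw [← h1, ← h2]
    exact hx''I
  have h4 : (x'⁻¹ * x * x'⁻¹) * z₁ = z₁ * (x'⁻¹ * x * x'⁻¹) := C.hcen _ hq z₁ hz₁
  have h5 : z₁ = z₁⁻¹ := mul_right_cancel (h4.symm.trans h3)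
  have hsq : z₁ * z₁ = 1 := by
    nth_rewrite 1 [h5]
    group
  have hz1 : z₁ = 1 := by
    have h6 := hk z₁ (C.hZU hz₁)
    rw [← (Commute.refl z₁).mul_pow, hsq, one_pow] at h6
    exact h6.symm
  rw [hz1, mul_one]

/-- the transvection acts quadratically on the subgroup generated by the elements inverted
by `t` -/
theorem ctx_quadI [Finite X] (C : Ctx p Z₁ U₂ ψ) (hp2 : p ≠ 2) {a t : X} {c : ZMod p}
    (ha : Acts U₂ ψ a (upp c)) (ht : Acts U₂ ψ t negOne) (htc : ∀ z ∈ Z₁, t * z = z * t)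
    (hcomm : CommT U₂ t a) :
    ∀ y ∈ Subgroup.closure (Inv U₂ t),
      a * (a * y * a⁻¹ * y⁻¹) * a⁻¹ = a * y * a⁻¹ * y⁻¹ := by
  have hbase := ctx_quadI_base C hp2 ha ht htc hcomm
  have hE : ∀ y ∈ U₂, a * y * a⁻¹ * y⁻¹ ∈ U₂ ∧ ψ (a * y * a⁻¹ * y⁻¹) 1 = 0 := by
    intro y hy
    obtain ⟨h1, h2⟩ := ha y hy
    refine ⟨U₂.mul_mem h1 (U₂.inv_mem hy), ?_⟩
    rw [C.hadd _ h1 _ (U₂.inv_mem hy), h2, C.psi_inv hy, upp_mulVec]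
    simp
  have key : ∀ y ∈ Subgroup.closure (Inv U₂ t),
      y ∈ U₂ ∧ a * (a * y * a⁻¹ * y⁻¹) * a⁻¹ = a * y * a⁻¹ * y⁻¹ := by
    intro y hy
    induction hy using Subgroup.closure_induction with
    | mem x hx =>
      refine ⟨hx.1, ?_⟩
      have h1 := hbase x⁻¹ (inv_mem_Inv hx)
      have e : a * x * a⁻¹ * x⁻¹ = (x⁻¹⁻¹ * (a * x⁻¹ * a⁻¹))⁻¹ := by group
      rw [e]
      calc a * (x⁻¹⁻¹ * (a * x⁻¹ * a⁻¹))⁻¹ * a⁻¹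
          = (a * (x⁻¹⁻¹ * (a * x⁻¹ * a⁻¹)) * a⁻¹)⁻¹ := conj_inv' a _
        _ = (x⁻¹⁻¹ * (a * x⁻¹ * a⁻¹))⁻¹ := by rw [h1]
    | one => exact ⟨U₂.one_mem, by group⟩
    | mul y₁ y₂ _ _ ih₁ ih₂ =>
      obtain ⟨hy₁, hq₁⟩ := ih₁
      obtain ⟨hy₂, hq₂⟩ := ih₂
      refine ⟨U₂.mul_mem hy₁ hy₂, ?_⟩
      obtain ⟨hw₁, hw₁ψ⟩ := hE y₁ hy₁
      obtain ⟨hw₂, hw₂ψ⟩ := hE y₂ hy₂
      have hw₂' : y₁ * (a * y₂ * a⁻¹ * y₂⁻¹) * y₁⁻¹ ∈ U₂ :=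
        U₂.mul_mem (U₂.mul_mem hy₁ hw₂) (U₂.inv_mem hy₁)
      have hw₂'ψ : ψ (y₁ * (a * y₂ * a⁻¹ * y₂⁻¹) * y₁⁻¹) 1 = 0 := by
        rw [C.hadd _ (U₂.mul_mem hy₁ hw₂) _ (U₂.inv_mem hy₁), C.hadd _ hy₁ _ hw₂,
          C.psi_inv hy₁]
        simp [hw₂ψ]
      have hc := ctx_estar_comm C hw₁ hw₂' hw₁ψ hw₂'ψ
      have e1 : a * (y₁ * y₂) * a⁻¹ * (y₁ * y₂)⁻¹ =
          (a * y₁ * a⁻¹ * y₁⁻¹) * (y₁ * (a * y₂ * a⁻¹ * y₂⁻¹) * y₁⁻¹) := by group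
      rw [e1]
      calc a * ((a * y₁ * a⁻¹ * y₁⁻¹) * (y₁ * (a * y₂ * a⁻¹ * y₂⁻¹) * y₁⁻¹)) * a⁻¹
          = (a * (a * y₁ * a⁻¹ * y₁⁻¹) * a⁻¹) * ((a * y₁ * a⁻¹ * y₁⁻¹) * y₁) *
              (a * (a * y₂ * a⁻¹ * y₂⁻¹) * a⁻¹) * ((a * y₁ * a⁻¹ * y₁⁻¹) * y₁)⁻¹ := by group
        _ = (a * y₁ * a⁻¹ * y₁⁻¹) * ((a * y₁ * a⁻¹ * y₁⁻¹) * y₁) *
              (a * y₂ * a⁻¹ * y₂⁻¹) * ((a * y₁ * a⁻¹ * y₁⁻¹) * y₁)⁻¹ := by rw [hq₁, hq₂]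
        _ = (a * y₁ * a⁻¹ * y₁⁻¹) * ((a * y₁ * a⁻¹ * y₁⁻¹) *
              (y₁ * (a * y₂ * a⁻¹ * y₂⁻¹) * y₁⁻¹)) * (a * y₁ * a⁻¹ * y₁⁻¹)⁻¹ := by group
        _ = (a * y₁ * a⁻¹ * y₁⁻¹) * ((y₁ * (a * y₂ * a⁻¹ * y₂⁻¹) * y₁⁻¹) *
              (a * y₁ * a⁻¹ * y₁⁻¹)) * (a * y₁ * a⁻¹ * y₁⁻¹)⁻¹ := by rw [hc]
        _ = (a * y₁ * a⁻¹ * y₁⁻¹) * (y₁ * (a * y₂ * a⁻¹ * y₂⁻¹) * y₁⁻¹) := by group
    | inv y _ ih =>
      obtain ⟨hy, hq⟩ := ih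
      refine ⟨U₂.inv_mem hy, ?_⟩
      calc a * (a * y⁻¹ * a⁻¹ * y⁻¹⁻¹) * a⁻¹
          = ((a * y * a⁻¹ * y⁻¹) * y)⁻¹ * (a * (a * y * a⁻¹ * y⁻¹) * a⁻¹)⁻¹ *
              ((a * y * a⁻¹ * y⁻¹) * y) := by group
        _ = ((a * y * a⁻¹ * y⁻¹) * y)⁻¹ * (a * y * a⁻¹ * y⁻¹)⁻¹ *
              ((a * y * a⁻¹ * y⁻¹) * y) := by rw [hq]
        _ = a * y⁻¹ * a⁻¹ * y⁻¹⁻¹ := by group
  exact fun y hy => (key y hy).2

/-- every vector is the image of an element inverted by `t` -/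
theorem ctx_exists_inv [Finite X] (C : Ctx p Z₁ U₂ ψ) (hp2 : p ≠ 2) {t : X}
    (ht : Acts U₂ ψ t negOne) (htc : ∀ z ∈ Z₁, t * z = z * t) (v : Fin 2 → ZMod p) :
    ∃ e ∈ Inv U₂ t, ψ e = v := by
  obtain ⟨k, hk⟩ := C.half hp2
  obtain ⟨w, hw, rfl⟩ := C.hsurj v
  obtain ⟨htw, hψtw⟩ := ht w hw
  rw [negOne_mulVec] at hψtw
  have hζ : w * (t * w * t⁻¹) ∈ Z₁ := by
    refine (C.hker _ (U₂.mul_mem hw htw)).mp ?_
    rw [C.hadd w hw _ htw, hψtw, add_neg_cancel]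
  have hη : ((w * (t * w * t⁻¹))⁻¹) ^ k ∈ Z₁ := Z₁.pow_mem (Z₁.inv_mem hζ) k
  have hηη := hk _ (C.hZU (Z₁.inv_mem hζ))
  generalize ((w * (t * w * t⁻¹))⁻¹) ^ k = η at hη hηη
  have he : w * η ∈ U₂ := U₂.mul_mem hw (C.hZU hη)
  have e1 : t * η = η * t := htc η hη
  have e2 : w * η⁻¹ = η⁻¹ * w := C.hcen w hw _ (Z₁.inv_mem hη)
  have hinv : t * (w * η) * t⁻¹ = (w * η)⁻¹ := by
    have h1 : t * w * t⁻¹ = w⁻¹ * (η * η)⁻¹ := by rw [hηη]; group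
    calc t * (w * η) * t⁻¹ = (t * w * t⁻¹) * ((t * η) * t⁻¹) := by group
      _ = (w⁻¹ * (η * η)⁻¹) * ((η * t) * t⁻¹) := by rw [h1, e1]
      _ = w⁻¹ * η⁻¹ := by group
      _ = (η * w)⁻¹ := by group
      _ = (w * η)⁻¹ := by
        have : η * w = w * η := by
          calc η * w = η * (w * η⁻¹) * η := by group
            _ = η * (η⁻¹ * w) * η := by rw [e2]
            _ = w * η := by group
        rw [this]
  have hψe : ψ (w * η) = ψ w := by rw [C.hadd w hw η (C.hZU hη), C.psi_Z hη, add_zero]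
  exact ⟨w * η, ⟨he, hinv⟩, hψe⟩

/-- the endgame for every odd prime: the configuration contradicts weak stability -/
theorem ctx_endgame2 [Finite X] (C : Ctx p Z₁ U₂ ψ) (hp2 : p ≠ 2)
    (hst : WStable p X) {u t w : X}
    (hu : Acts U₂ ψ u (upp 1)) (ht : Acts U₂ ψ t negOne)
    (hw : Acts U₂ ψ w ww) (htc : ∀ z ∈ Z₁, t * z = z * t) : False := by
  obtain ⟨πu, hπu, hcu⟩ := C.modify hp2 hu ht htc
  obtain ⟨πw, hπw, hcw⟩ := C.modify hp2 hw ht htc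
  have hu' : Acts U₂ ψ (u * πu) (upp 1) := by
    have h1 := acts_mul hu (C.acts_of_pi hπu)
    rwa [mul_one] at h1
  have hw' : Acts U₂ ψ (w * πw) ww := by
    have h1 := acts_mul hw (C.acts_of_pi hπw)
    rwa [mul_one] at h1
  generalize u * πu = a at hcu hu'
  generalize w * πw = w' at hcw hw'
  have hquad := ctx_quadI C hp2 hu' ht htc hcu
  have haN : a ∈ Subgroup.normalizer ((Subgroup.closure (Inv U₂ t) : Subgroup X) : Set X) :=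
    ctx_mem_normalizer_closure C hu' hcu
  have hwN : w' ∈ Subgroup.normalizer ((Subgroup.closure (Inv U₂ t) : Subgroup X) : Set X) :=
    ctx_mem_normalizer_closure C hw' hcw
  have hU₃ : IsPGroup p (Subgroup.closure (Inv U₂ t)) := C.hU₂.to_le closure_Inv_le
  obtain ⟨D, haD, hDn, hDc⟩ := hst _ hU₃ a haN hquad
  have hβD : w' * a * w'⁻¹ ∈ D := hDn w' hwN a haD
  have hyD : (a * (w' * a * w'⁻¹) * a) ^ 2 ∈ D :=
    D.pow_mem (D.mul_mem (D.mul_mem haD hβD) haD) 2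
  obtain ⟨j, hj⟩ := hDc _ hyD
  have hβ : Acts U₂ ψ (w' * a * w'⁻¹) ((low 1)⁻¹) := by
    have h6 := acts_mul (acts_mul hw' hu') (C.acts_inv hw')
    rwa [ww_upp] at h6
  have hy : Acts U₂ ψ ((a * (w' * a * w'⁻¹) * a) ^ 2) negOne := by
    have h6 := acts_pow (acts_mul (acts_mul hu' hβ) hu') 2
    rwa [← negOne_eq] at h6
  have hyj := acts_pow hy (p ^ j)
  rw [negOne_pow_odd (Odd.pow ((Fact.out : p.Prime).odd_of_ne_two hp2))] at hyj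
  obtain ⟨e, heI, hψe⟩ := ctx_exists_inv C hp2 ht htc ![1, 0]
  have h1 := hj e (Subgroup.subset_closure heI)
  obtain ⟨h2, h3⟩ := hyj e heI.1
  rw [h1, mul_inv_cancel_right, negOne_mulVec, hψe] at h3
  have h5 := congrFun h3 0
  simp at h5
  apply two_ne_zero' (p := p) hp2
  linear_combination h5

end Cfsg.Agent.Lib.Helper32.NBEnd2
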