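import Cfsg.Agent.Lib.Helper32.NBMod
import Cfsg.Agent.Lib.Helper32.NBEnd2

/-! The key lemma for every odd prime: a weakly stable group has no bad triple. -/

set_option autoImplicit false
set_option linter.unusedSectionVars false
set_option linter.unusedVariables false

namespace Cfsg.Agent.Lib.Helper32.NBKey2

open Cfsg Matrix
open Cfsg.Agent.Lib.Helper32.NBDef
open Cfsg.Agent.Lib.Helper32.NBMod
open Cfsg.Agent.Lib.Helper32.NBEnd
open Cfsg.Agent.Lib.Helper32.NBEnd2
open Cfsg.Agent.Lib.Helper32.QdMat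

universe u

theorem nb_of_wstable {X : Type u} [Group X] [Finite X] {p : ℕ} [Fact p.Prime] (hp2 : p ≠ 2)
    (hst : WStable p X) : NB p X := by
  have key : ∀ n : ℕ, ∀ B U U₀ : Subgroup X, Nat.card U = n → ¬ Bad p B U U₀ := by
    intro n
    induction n using Nat.strong_induction_on with
    | _ n ih =>
    intro B U U₀ hn hb
    have star : ∀ U' : Subgroup X, U' ≤ U → U' ≠ U → (∀ b ∈ B, ∀ u ∈ U', b * u * b⁻¹ ∈ U') →
        ∀ x ∈ B, (orderOf x).Coprime p → ∀ u ∈ U', x * u = u * x := by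
      intro U' hle hne hinv x hx hxo u hu
      by_contra hcon
      have hcard : Nat.card U' < n := by
        rw [← hn]
        exact lt_of_not_ge (fun h => hne (Subgroup.eq_of_le_of_card_ge hle h))
      refine ih _ hcard B U' (U' ⊓ U₀) rfl ⟨inf_le_left, hb.pU.to_le hle, hinv, ?_, ?_, ?_, ?_,
        ⟨x, hx, hxo, u, hu, hcon⟩⟩
      · intro b hb' u hu
        exact ⟨hinv b hb' u hu.1, hb.nU₀ b hb' u hu.2⟩
      · intro b hb' u hu
        exact ⟨U'.mul_mem (U'.mul_mem hb' hu.1) (U'.inv_mem hb'), hb.uU₀ b (hle hb') u hu.2⟩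
      · intro x hx hxo z hz
        exact hb.cen x hx hxo z hz.2
      · refine hb.gen.trans (Subgroup.closure_mono ?_)
        rintro a ⟨haB, haq⟩
        refine ⟨haB, fun u hu => ⟨?_, haq u (hle hu)⟩⟩
        have h1 : a * u * a⁻¹ * u⁻¹ ∈ U' := U'.mul_mem (hinv a haB u hu) (U'.inv_mem hu)
        exact U'.mul_mem (hinv a haB _ h1) (U'.inv_mem h1)
    rcases ms_mod hp2 hb.le hb.pU hb.nU hb.nU₀ hb.uU₀ hb.cen hb.gen with
      h | ⟨Z₁, U₂, ψ, h1, h2, h3, h4, h5', h6, h7, h8, h9⟩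
    · obtain ⟨x, hx, hxo, u, hu, hne⟩ := hb.ncen
      exact hne (h x hx hxo u hu)
    · have hZne : Z₁ ≠ U := by
        intro hZU
        obtain ⟨x, hx, hψ⟩ := h8 ![1, 0]
        have h10 : ψ x = 0 := (h7 x hx).mpr (by rw [hZU]; exact h3 hx)
        rw [h10] at hψ
        have h11 := congrFun hψ 0
        simp at h11
      have K2 : ∀ x ∈ B, (orderOf x).Coprime p → ∀ z ∈ Z₁, x * z = z * x :=
        star Z₁ (h2.trans h3) hZne h4
      have hcenU : ∀ u ∈ U, ∀ z ∈ Z₁, u * z = z * u := by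
        by_cases hU' : U ⊓ Subgroup.centralizer (Z₁ : Set X) = U
        · intro u hu z hz
          have h10 : u ∈ U ⊓ Subgroup.centralizer (Z₁ : Set X) := by rw [hU']; exact hu
          exact (Subgroup.mem_centralizer_iff.mp (Subgroup.mem_inf.mp h10).2 z hz).symm
        · exfalso
          have hinv : ∀ b ∈ B, ∀ u ∈ U ⊓ Subgroup.centralizer (Z₁ : Set X),
              b * u * b⁻¹ ∈ U ⊓ Subgroup.centralizer (Z₁ : Set X) := by
            intro b hb' u hu
            obtain ⟨hu1, hu2⟩ := Subgroup.mem_inf.mp hu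
            refine Subgroup.mem_inf.mpr ⟨hb.nU b hb' u hu1, ?_⟩
            rw [Subgroup.mem_centralizer_iff]
            intro z hz
            have hz' : b⁻¹ * z * b⁻¹⁻¹ ∈ Z₁ := h4 b⁻¹ (B.inv_mem hb') z hz
            have e1 := Subgroup.mem_centralizer_iff.mp hu2 _ hz'
            calc z * (b * u * b⁻¹) = b * ((b⁻¹ * z * b⁻¹⁻¹) * u) * b⁻¹ := by group
              _ = b * (u * (b⁻¹ * z * b⁻¹⁻¹)) * b⁻¹ := by rw [e1]
              _ = b * u * b⁻¹ * z := by group
          have hstar := star _ inf_le_left hU' hinv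
          obtain ⟨x, hx, hxo, u, hu, hne⟩ := hb.ncen
          apply hne
          have hcU : x * u * x⁻¹ * u⁻¹ ∈ U := U.mul_mem (hb.nU x hx u hu) (U.inv_mem hu)
          have hcC : x * u * x⁻¹ * u⁻¹ ∈ Subgroup.centralizer (Z₁ : Set X) := by
            rw [Subgroup.mem_centralizer_iff]
            intro z hz
            have e1 : x * (u⁻¹ * z * u⁻¹⁻¹) = (u⁻¹ * z * u⁻¹⁻¹) * x :=
              K2 x hx hxo _ (h5' u⁻¹ (U.inv_mem hu) z hz)
            have e2 : x * z = z * x := K2 x hx hxo z hz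
            symm
            calc (x * u * x⁻¹ * u⁻¹) * z
                = x * u * x⁻¹ * ((u⁻¹ * z * u⁻¹⁻¹) * x) * x⁻¹ * u⁻¹ := by group
              _ = x * u * x⁻¹ * (x * (u⁻¹ * z * u⁻¹⁻¹)) * x⁻¹ * u⁻¹ := by rw [e1]
              _ = (x * z) * u * x⁻¹ * u⁻¹ := by group
              _ = (z * x) * u * x⁻¹ * u⁻¹ := by rw [e2]
              _ = z * (x * u * x⁻¹ * u⁻¹) := by group
          refine comm_of_coprime hxo ?_ (hstar x hx hxo _ (Subgroup.mem_inf.mpr ⟨hcU, hcC⟩))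
          obtain ⟨k, hk⟩ := hb.pU ⟨_, hcU⟩
          refine ⟨k, ?_⟩
          have := congrArg Subtype.val hk
          rwa [Subgroup.coe_pow, Subgroup.coe_one] at this
      have C : Ctx p Z₁ U₂ ψ :=
        ⟨h2, hb.pU.to_le h3, fun x hx z hz => hcenU x (h3 hx) z hz, h6, h7, h8⟩
      obtain ⟨gu, hguB, hgu⟩ := h9 (upp 1)
      obtain ⟨gt, hgtB, hgt⟩ := h9 negOne
      obtain ⟨gw, hgwB, hgw⟩ := h9 ww
      obtain ⟨N', hN'⟩ := exists_pprime_pow p gt
      have ht : Acts U₂ ψ (gt ^ p ^ N') negOne := by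
        have h10 := acts_pow (show Acts U₂ ψ gt negOne from hgt) (p ^ N')
        rwa [negOne_pow_odd (Odd.pow ((Fact.out : p.Prime).odd_of_ne_two hp2))] at h10
      exact ctx_endgame2 C hp2 hst hgu ht hgw (K2 _ (B.pow_mem hgtB _) hN')
  intro B U U₀
  exact key _ B U U₀ rfl

end Cfsg.Agent.Lib.Helper32.NBKey2
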