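import Mathlib
import Cfsg.Agent.Lib.Helper22.S56Stmt
import Cfsg.Agent.Lib.Helper78.Fitting
import Cfsg.Agent.Lib.Helper65.NilCoprime
import Cfsg.Agent.Lib.Helper17.S64FHHALL

/-!
# S1356 piece FLE2 (call by helper22): `F(X) ≤ C_X(X_F) X_F`
-/

set_option autoImplicit false

namespace Cfsg.Agent.Lib.Helper32.S56FLE2

open Cfsg.Agent.Lib.Helper22.S56Stmt

universe u

theorem main : FLe2.{u} := by
  intro X _ _
  classical
  intro x hx
  have hcop : (Nat.card ↥(Cfsg.fittingHall X)).Coprime (Cfsg.fittingHall X).index :=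
    Cfsg.Agent.Lib.Helper17.S64FHHALL.main
  have hNF : Cfsg.fittingHall X ≤ Cfsg.fittingSubgroup X :=
    sSup_le_sSup (fun K hK => ⟨hK.1, hK.2.1⟩)
  have hnil : Group.IsNilpotent ↥(Cfsg.fittingSubgroup X) :=
    Cfsg.Agent.Lib.Helper78.Fitting.fitting_isNilpotent
  have hxm : x ^ (Cfsg.fittingHall X).index ∈ Cfsg.fittingHall X :=
    Subgroup.pow_index_mem (Cfsg.fittingHall X) x
  have hxn : x ^ Nat.card ↥(Cfsg.fittingHall X) ∈
      Subgroup.centralizer ((Cfsg.fittingHall X : Subgroup X) : Set X) := by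
    rw [Subgroup.mem_centralizer_iff]
    intro z hz
    have hz_ord : orderOf z ∣ Nat.card ↥(Cfsg.fittingHall X) := by
      have h1 : orderOf (⟨z, hz⟩ : ↥(Cfsg.fittingHall X)) ∣ Nat.card ↥(Cfsg.fittingHall X) :=
        orderOf_dvd_natCard _
      rwa [Subgroup.orderOf_mk] at h1
    have hy_ord : orderOf (x ^ Nat.card ↥(Cfsg.fittingHall X)) ∣ (Cfsg.fittingHall X).index := by
      apply orderOf_dvd_of_pow_eq_one
      rw [← pow_mul, Subgroup.card_mul_index]
      exact pow_card_eq_one'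
    have hc : (orderOf z).Coprime (orderOf (x ^ Nat.card ↥(Cfsg.fittingHall X))) :=
      Nat.Coprime.coprime_dvd_left hz_ord (Nat.Coprime.coprime_dvd_right hy_ord hcop)
    have h2 := Cfsg.Agent.Lib.Helper65.NilCoprime.commute_of_coprime
      ↥(Cfsg.fittingSubgroup X) ⟨z, hNF hz⟩
      ⟨x ^ Nat.card ↥(Cfsg.fittingHall X), pow_mem hx _⟩
      (isOfFinOrder_of_finite _) (isOfFinOrder_of_finite _)
      (by rw [Subgroup.orderOf_mk, Subgroup.orderOf_mk]; exact hc)
    exact congrArg Subtype.val h2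
  have hb : (1 : ℤ) = (Nat.card ↥(Cfsg.fittingHall X) : ℤ) *
        Nat.gcdA (Nat.card ↥(Cfsg.fittingHall X)) (Cfsg.fittingHall X).index +
      ((Cfsg.fittingHall X).index : ℤ) *
        Nat.gcdB (Nat.card ↥(Cfsg.fittingHall X)) (Cfsg.fittingHall X).index := by
    have h3 := Nat.gcd_eq_gcd_ab (Nat.card ↥(Cfsg.fittingHall X)) (Cfsg.fittingHall X).index
    rw [Nat.Coprime.gcd_eq_one hcop] at h3
    exact_mod_cast h3
  have hx_eq : x = (x ^ Nat.card ↥(Cfsg.fittingHall X)) ^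
        (Nat.gcdA (Nat.card ↥(Cfsg.fittingHall X)) (Cfsg.fittingHall X).index) *
      (x ^ (Cfsg.fittingHall X).index) ^
        (Nat.gcdB (Nat.card ↥(Cfsg.fittingHall X)) (Cfsg.fittingHall X).index) := by
    rw [← zpow_natCast x, ← zpow_natCast x, ← zpow_mul, ← zpow_mul, ← zpow_add, ← hb, zpow_one]
  rw [hx_eq]
  exact Subgroup.mul_mem_sup (Subgroup.zpow_mem _ hxn _) (Subgroup.zpow_mem _ hxm _)

end Cfsg.Agent.Lib.Helper32.S56FLE2
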