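import Mathlib
import Cfsg.Prelude.Def_OddOrderLocal
import Cfsg.Agent.Lib.Helper78.Fitting
import Cfsg.Agent.Lib.Helper17.S64FHHALL

/-!
# S1381 piece FHD (call by helper22): pure core
`(D)_F = M_F` for a normal Hall subgroup `D` of `M` containing `M_F`.
-/

set_option autoImplicit false

namespace Cfsg.Agent.Lib.Helper32.S81FHDCore

universe u

theorem le_fittingHall {A : Type u} [Group A] (N : Subgroup A) (h1 : N.Normal)
    (h2 : Group.IsNilpotent N) (h3 : (Nat.card N).Coprime N.index) :
    N ≤ Cfsg.fittingHall A := le_sSup ⟨h1, h2, h3⟩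

theorem map_le {A B : Type u} [Group A] [Group B] (e : A ≃* B) :
    (Cfsg.fittingHall A).map e.toMonoidHom ≤ Cfsg.fittingHall B := by
  rw [Subgroup.map_le_iff_le_comap]
  apply sSup_le
  rintro N ⟨h1, h2, h3⟩
  rw [← Subgroup.map_le_iff_le_comap]
  apply le_fittingHall
  · exact h1.map e.toMonoidHom e.surjective
  · have := h2
    exact Group.nilpotent_of_mulEquiv (N.equivMapOfInjective e.toMonoidHom e.injective)
  · have e1 : Nat.card ↥(N.map e.toMonoidHom) = Nat.card N :=
      Subgroup.card_map_of_injective e.injective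
    have e2 : (N.map e.toMonoidHom).index = N.index :=
      Subgroup.index_map_of_bijective (f := e.toMonoidHom) e.bijective N
    rw [e1, e2]; exact h3

theorem map_eq {A B : Type u} [Group A] [Group B] (e : A ≃* B) :
    (Cfsg.fittingHall A).map e.toMonoidHom = Cfsg.fittingHall B := by
  apply le_antisymm (map_le e)
  have h := map_le e.symm
  intro b hb
  have hb' : e.symm b ∈ Cfsg.fittingHall A := h ⟨b, hb, rfl⟩
  exact ⟨e.symm b, hb', e.apply_symm_apply b⟩

theorem characteristic (A : Type u) [Group A] : (Cfsg.fittingHall A).Characteristic :=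
  Subgroup.characteristic_iff_map_eq.mpr (fun ϕ => map_eq ϕ)

theorem fittingHall_nilp (A : Type u) [Group A] [Finite A] :
    Group.IsNilpotent ↥(Cfsg.fittingHall A) := by
  have hle : Cfsg.fittingHall A ≤ Cfsg.fittingSubgroup A :=
    sSup_le_sSup (fun K hK => ⟨hK.1, hK.2.1⟩)
  have : Group.IsNilpotent ↥(Cfsg.fittingSubgroup A) :=
    Cfsg.Agent.Lib.Helper78.Fitting.fitting_isNilpotent
  exact Group.nilpotent_of_mulEquiv (Subgroup.subgroupOfEquivOfLe hle)

theorem coreA {X : Type u} [Group X] [Finite X] (D : Subgroup X) [hDn : D.Normal]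
    (hcop : (Nat.card D).Coprime D.index) (hle : Cfsg.fittingHall X ≤ D) :
    (Cfsg.fittingHall ↥D).map D.subtype = Cfsg.fittingHall X := by
  apply le_antisymm
  · have hch := characteristic ↥D
    apply le_fittingHall
    · exact ConjAct.normal_of_characteristic_of_normal
    · have := fittingHall_nilp ↥D
      exact Group.nilpotent_of_mulEquiv
        ((Cfsg.fittingHall ↥D).equivMapOfInjective D.subtype D.subtype_injective)
    · have e1 : Nat.card ↥((Cfsg.fittingHall ↥D).map D.subtype) =
          Nat.card ↥(Cfsg.fittingHall ↥D) :=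
        Subgroup.card_map_of_injective D.subtype_injective
      rw [e1, Subgroup.index_map_subtype]
      have h1 : (Nat.card ↥(Cfsg.fittingHall ↥D)).Coprime (Cfsg.fittingHall ↥D).index :=
        Cfsg.Agent.Lib.Helper17.S64FHHALL.main
      have h2 : Nat.card ↥(Cfsg.fittingHall ↥D) ∣ Nat.card D :=
        Subgroup.card_subgroup_dvd_card _
      exact Nat.Coprime.mul_right h1 (Nat.Coprime.coprime_dvd_left h2 hcop)
  · have h : (Cfsg.fittingHall X).subgroupOf D ≤ Cfsg.fittingHall ↥D := by
      apply le_fittingHall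
      · infer_instance
      · have := fittingHall_nilp X
        exact Group.nilpotent_of_mulEquiv (Subgroup.subgroupOfEquivOfLe hle).symm
      · have e1 : Nat.card ↥((Cfsg.fittingHall X).subgroupOf D) =
            Nat.card ↥(Cfsg.fittingHall X) :=
          Nat.card_congr (Subgroup.subgroupOfEquivOfLe hle).toEquiv
        have h1 : (Nat.card ↥(Cfsg.fittingHall X)).Coprime (Cfsg.fittingHall X).index :=
          Cfsg.Agent.Lib.Helper17.S64FHHALL.main
        have h2 : ((Cfsg.fittingHall X).subgroupOf D).index ∣ (Cfsg.fittingHall X).index :=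
          Subgroup.relIndex_dvd_index_of_normal (Cfsg.fittingHall X) D
        rw [e1]; exact Nat.Coprime.coprime_dvd_right h2 h1
    calc Cfsg.fittingHall X = ((Cfsg.fittingHall X).subgroupOf D).map D.subtype :=
          (Subgroup.map_subgroupOf_eq_of_le hle).symm
      _ ≤ (Cfsg.fittingHall ↥D).map D.subtype := Subgroup.map_mono h

/-- `(D)_F = M_F` for `D ≤ M` normalized by `M`, of order prime to its index in `M`, with
`M_F ≤ D`. -/
theorem main {G : Type u} [Group G] [Finite G] (M D : Subgroup G) (hDM : D ≤ M)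
    (hDn : ∀ m ∈ M, ∀ d ∈ D, m * d * m⁻¹ ∈ D)
    (hcop : (Nat.card D).Coprime (D.relIndex M))
    (hle : Cfsg.fittingHallOf M ≤ D) :
    Cfsg.fittingHallOf D = Cfsg.fittingHallOf M := by
  have hD'n : (D.subgroupOf M).Normal := by
    constructor
    intro n hn g
    rw [Subgroup.mem_subgroupOf] at hn ⊢
    exact hDn g g.2 n hn
  have hcop' : (Nat.card ↥(D.subgroupOf M)).Coprime (D.subgroupOf M).index := by
    have e1 : Nat.card ↥(D.subgroupOf M) = Nat.card D :=
      Nat.card_congr (Subgroup.subgroupOfEquivOfLe hDM).toEquiv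
    rw [e1]; exact hcop
  have hle' : Cfsg.fittingHall ↥M ≤ D.subgroupOf M := by
    intro x hx
    rw [Subgroup.mem_subgroupOf]
    exact hle ⟨x, hx, rfl⟩
  have hA := coreA (D.subgroupOf M) hcop' hle'
  have hI := map_eq (Subgroup.subgroupOfEquivOfLe hDM)
  unfold Cfsg.fittingHallOf
  rw [← hA, ← hI, Subgroup.map_map, Subgroup.map_map]
  rfl

end Cfsg.Agent.Lib.Helper32.S81FHDCore
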