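import Mathlib
import Cfsg.Prelude.Def_OddOrderLocal

/-!
# S1381 piece TYPEF (call by helper22): pure transport core
`IsOfTypeF ↥D` from data stated inside the ambient group `G`.
-/

set_option autoImplicit false

namespace Cfsg.Agent.Lib.Helper32.S81TYPEFCore

open scoped Pointwise

universe u

theorem mem_fh_iff {G : Type u} [Group G] (D : Subgroup G) (x : ↥D) :
    x ∈ Cfsg.fittingHall ↥D ↔ (x : G) ∈ Cfsg.fittingHallOf D := by
  constructor
  · intro hx
    exact ⟨x, hx, rfl⟩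
  · rintro ⟨y, hy, hyx⟩
    have : y = x := Subtype.ext hyx
    rw [← this]; exact hy

theorem typeF_of {G : Type u} [Group G] (D U U₀ : Subgroup G)
    (hsol : Group.IsSolvable ↥D) (hodd : Odd (Nat.card ↥D))
    (hF1 : Cfsg.fittingHallOf D ≠ ⊥)
    (hUD : U ≤ D) (hU1 : U ≠ ⊥)
    (hdisj : Cfsg.fittingHallOf D ⊓ U = ⊥)
    (hprod : ∀ d ∈ D, ∃ f ∈ Cfsg.fittingHallOf D, ∃ u ∈ U, d = f * u)
    (hUab : ∀ a ∈ U, ∀ b ∈ U, a * b = b * a)
    (hU0 : U₀ ≤ U) (hexp : Monoid.exponent ↥U₀ = Monoid.exponent ↥U)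
    (hfpf : ∀ u ∈ U₀, u ≠ 1 → ∀ x ∈ Cfsg.fittingHallOf D, u * x = x * u → x = 1) :
    Cfsg.IsOfTypeF ↥D := by
  have hval1 : ∀ x : ↥D, (x : G) = 1 → x = 1 := fun x hx => Subtype.ext hx
  refine ⟨hsol, hodd, ?_, ?_, U.subgroupOf D, ?_, ?_, ?_, ?_⟩
  · intro h
    apply hF1
    unfold Cfsg.fittingHallOf
    rw [h, Subgroup.map_bot]
  · intro h
    apply hU1
    rw [Subgroup.eq_bot_iff_forall]
    intro u hu
    have h1 : (⟨u, hUD hu⟩ : ↥D) ∈ Cfsg.fittingHall ↥D := by rw [h]; exact Subgroup.mem_top _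
    have h2 : u ∈ Cfsg.fittingHallOf D ⊓ U := ⟨(mem_fh_iff D ⟨u, hUD hu⟩).mp h1, hu⟩
    rw [hdisj] at h2
    exact Subgroup.mem_bot.mp h2
  · intro h
    apply hU1
    rw [Subgroup.eq_bot_iff_forall]
    intro u hu
    have h1 : (⟨u, hUD hu⟩ : ↥D) ∈ U.subgroupOf D := by
      rw [Subgroup.mem_subgroupOf]; exact hu
    rw [h] at h1
    exact congrArg Subtype.val (Subgroup.mem_bot.mp h1)
  · apply Subgroup.isComplement'_of_disjoint_and_mul_eq_univ
    · rw [disjoint_iff, Subgroup.eq_bot_iff_forall]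
      rintro x ⟨hx1, hx2⟩
      apply hval1
      have h2 : (x : G) ∈ Cfsg.fittingHallOf D ⊓ U :=
        ⟨(mem_fh_iff D x).mp hx1, Subgroup.mem_subgroupOf.mp hx2⟩
      rw [hdisj] at h2
      exact Subgroup.mem_bot.mp h2
    · apply Set.eq_univ_of_forall
      intro d
      obtain ⟨f, hf, u, hu, hd⟩ := hprod d.1 d.2
      obtain ⟨f', hf', hff⟩ := hf
      refine Set.mem_mul.mpr ⟨f', hf', ⟨u, hUD hu⟩, ?_, ?_⟩
      · exact Subgroup.mem_subgroupOf.mpr hu
      · apply Subtype.ext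
        rw [Subgroup.coe_mul]
        rw [hd, ← hff]
        rfl
  · refine ⟨U.subgroupOf D, le_rfl, Subgroup.le_normalizer, ?_, ?_⟩
    · refine ⟨⟨fun a b => ?_⟩⟩
      apply Subtype.ext
      apply Subtype.ext
      exact hUab a.1.1 (Subgroup.mem_subgroupOf.mp a.2) b.1.1 (Subgroup.mem_subgroupOf.mp b.2)
    · intro x _ _
      exact inf_le_left
  · refine ⟨U₀.subgroupOf D, ?_, ?_, ?_⟩
    · intro x hx
      exact Subgroup.mem_subgroupOf.mpr (hU0 (Subgroup.mem_subgroupOf.mp hx))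
    · rw [Monoid.exponent_eq_of_mulEquiv (Subgroup.subgroupOfEquivOfLe (hU0.trans hUD)),
        Monoid.exponent_eq_of_mulEquiv (Subgroup.subgroupOfEquivOfLe hUD)]
      exact hexp
    · intro u hu hu1 x hx hux
      apply hval1
      refine hfpf u.1 (Subgroup.mem_subgroupOf.mp hu) ?_ x.1 ((mem_fh_iff D x).mp hx) ?_
      · intro h; exact hu1 (hval1 u h)
      · exact congrArg Subtype.val hux

end Cfsg.Agent.Lib.Helper32.S81TYPEFCore
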