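import Mathlib
import Cfsg.Prelude.Def_Characters
import Cfsg.Prelude.Def_Transfer

/-!
# S3805: statement file (configuration, exceptional class function, piece statements)

Setting: `T = <x> x <y>` of order 9 is a Sylow 3-subgroup, `N = N_G(T) = <x,a> x <y,b>`
(two commuting copies of `S3`), and `C_G(t) <= N` for every nonidentity `t` of `T`.
-/

set_option autoImplicit false

namespace Cfsg.Agent.Lib.Helper32.S9Stmt

open Cfsg
open scoped ComplexConjugate

universe u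

/-- The configuration. -/
structure Cfg {G : Type u} [Group G] (T N : Subgroup G) (x y a b : G) : Prop where
  x3 : x ^ 3 = 1
  y3 : y ^ 3 = 1
  a2 : a ^ 2 = 1
  b2 : b ^ 2 = 1
  xy : x * y = y * x
  ab : a * b = b * a
  ax : a * x * a⁻¹ = x⁻¹
  ay : a * y = y * a
  bx : b * x = x * b
  by_ : b * y * b⁻¹ = y⁻¹
  x1 : x ≠ 1
  yx : y ∉ Subgroup.zpowers x
  memT : ∀ g, g ∈ T ↔ ∃ i j : ℕ, g = x ^ i * y ^ j
  memN : ∀ g, g ∈ N ↔ ∃ t ∈ T, ∃ k l : ℕ, g = t * a ^ k * b ^ l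
  norm : ∀ g, (∀ t ∈ T, g * t * g⁻¹ ∈ T) → g ∈ N
  loc : ∀ t ∈ T, t ≠ 1 → ∀ g, g * t = t * g → g ∈ N
  syl : ¬ 27 ∣ Nat.card G

/-- The configuration is symmetric under `x <-> y`, `a <-> b`. -/
theorem Cfg.swap {G : Type u} [Group G] {T N : Subgroup G} {x y a b : G}
    (h : Cfg T N x y a b) : Cfg T N y x b a where
  x3 := h.y3
  y3 := h.x3
  a2 := h.b2
  b2 := h.a2
  xy := h.xy.symm
  ab := h.ab.symm
  ax := h.by_
  ay := h.bx
  bx := h.ay
  by_ := h.ax
  x1 := fun hy => h.yx (hy ▸ one_mem _)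
  yx := by
    intro hx
    obtain ⟨k, hk⟩ := Subgroup.mem_zpowers_iff.1 hx
    have hk' : y ^ (k % 3) = x := by
      rw [← hk]
      exact (zpow_eq_zpow_emod' k (by exact_mod_cast h.y3)).symm
    have h0 : 0 ≤ k % 3 := Int.emod_nonneg k (by norm_num)
    have h3 : k % 3 < 3 := Int.emod_lt_of_pos k (by norm_num)
    have hcases : k % 3 = 0 ∨ k % 3 = 1 ∨ k % 3 = 2 := by omega
    rcases hcases with h' | h' | h'
    · rw [h', zpow_zero] at hk'
      exact h.x1 hk'.symm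
    · rw [h'] at hk'
      simp only [zpow_one] at hk'
      exact h.yx (hk' ▸ Subgroup.mem_zpowers x)
    · rw [h'] at hk'
      have hy2 : y ^ 2 = x := by exact_mod_cast hk'
      have : y = x ^ 2 := by
        rw [← hy2, ← pow_mul]
        calc y = y ^ 3 * y := by rw [h.y3, one_mul]
          _ = y ^ (2 * 2) := by group
      exact h.yx (this ▸ Subgroup.npow_mem_zpowers x 2)
  memT := fun g => by
    rw [h.memT]
    constructor
    · rintro ⟨i, j, rfl⟩
      exact ⟨j, i, ((Commute.pow_pow (show Commute x y from h.xy) i j).eq)⟩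
    · rintro ⟨i, j, rfl⟩
      exact ⟨j, i, ((Commute.pow_pow (show Commute x y from h.xy) j i).eq.symm)⟩
  memN := fun g => by
    rw [h.memN]
    constructor
    · rintro ⟨t, ht, k, l, rfl⟩
      refine ⟨t, ht, l, k, ?_⟩
      rw [mul_assoc, mul_assoc, (Commute.pow_pow (show Commute a b from h.ab) k l).eq]
    · rintro ⟨t, ht, k, l, rfl⟩
      refine ⟨t, ht, l, k, ?_⟩
      rw [mul_assoc, mul_assoc, (Commute.pow_pow (show Commute a b from h.ab) l k).eq]
  norm := h.norm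
  loc := h.loc
  syl := h.syl

/-- A linear character of `C_G(x)`, nontrivial at `x`, trivial at `y` and `b`. -/
structure Om {G : Type u} [Group G] (x y b : G)
    (f : Subgroup.centralizer ({x} : Set G) →* ℂˣ) : Prop where
  fx : ∀ h : x ∈ Subgroup.centralizer ({x} : Set G), f ⟨x, h⟩ ≠ 1
  fy : ∀ h : y ∈ Subgroup.centralizer ({x} : Set G), f ⟨y, h⟩ = 1
  fb : ∀ h : b ∈ Subgroup.centralizer ({x} : Set G), f ⟨b, h⟩ = 1

/-- The function `1 - f` on `C_G(x)`. -/
noncomputable def phi {G : Type u} [Group G] (x : G)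
    (f : Subgroup.centralizer ({x} : Set G) →* ℂˣ) :
    Subgroup.centralizer ({x} : Set G) → ℂ :=
  fun h => 1 - ((f h : ℂˣ) : ℂ)

/-- The exceptional class function: `1 - f` induced from `C_G(x)` to `G`. -/
noncomputable def exc {G : Type u} [Group G] [Fintype G] (x : G)
    (f : Subgroup.centralizer ({x} : Set G) →* ℂˣ) : G → ℂ :=
  indFun (Subgroup.centralizer ({x} : Set G)) (phi x f)

/-- The trivial character. -/
def triv (G : Type u) : G → ℂ := fun _ => 1

/-! ## Group-theoretic pieces -/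

/-- CFG: the hypotheses of S3805 give a configuration. -/
def CFG : Prop := ∀ {G : Type u} [Group G] [Finite G] (T : Sylow 3 G),
    Cfsg.IsElementaryAbelian 3 (T : Subgroup G) → Nat.card T = 9 →
    Subgroup.centralizer ((T : Subgroup G) : Set G) = T →
    ∀ [((T : Subgroup G).subgroupOf (Subgroup.normalizer ((T : Subgroup G) : Set G))).Normal],
    IsKleinFour (↥(Subgroup.normalizer ((T : Subgroup G) : Set G)) ⧸
      (T : Subgroup G).subgroupOf (Subgroup.normalizer ((T : Subgroup G) : Set G))) →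
    (∀ t ∈ (T : Subgroup G), t ≠ 1 →
      Subgroup.centralizer ({t} : Set G) ≤ Subgroup.normalizer ((T : Subgroup G) : Set G)) →
    ∃ x y a b : G, Cfg (T : Subgroup G) (Subgroup.normalizer ((T : Subgroup G) : Set G)) x y a b

/-- TI: `T` is a TI-subgroup with normalizer `N`. -/
def TI : Prop := ∀ {G : Type u} [Group G] [Finite G] {T N : Subgroup G} {x y a b : G},
    Cfg T N x y a b → ∀ g t : G, t ∈ T → t ≠ 1 → g * t * g⁻¹ ∈ T → g ∈ N

/-- NOFUS: `a` and `b` are not conjugate in `G`. -/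
def NOFUS : Prop := ∀ {G : Type u} [Group G] [Finite G] {T N : Subgroup G} {x y a b : G},
    Cfg T N x y a b → ¬ IsConj a b

/-- NCORE: a normal subgroup of `G` meeting `N` trivially is trivial. -/
def NCORE : Prop := ∀ {G : Type u} [Group G] [Finite G] {T N : Subgroup G} {x y a b : G},
    Cfg T N x y a b → ∀ K : Subgroup G, K.Normal → (∀ g ∈ K, g ∈ N → g = 1) → K = ⊥

/-- INV: the involutions of `N` are `T`-conjugate to `a`, `b` or `a * b`. -/
def INV : Prop := ∀ {G : Type u} [Group G] [Finite G] {T N : Subgroup G} {x y a b : G},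
    Cfg T N x y a b → ∀ u ∈ N, u ^ 2 = 1 →
      u = 1 ∨ (∃ t ∈ T, u = t * a * t⁻¹) ∨ (∃ t ∈ T, u = t * b * t⁻¹) ∨
        (∃ t ∈ T, u = t * (a * b) * t⁻¹)

/-- KGRP: a normal subgroup containing `b` but not `x` meets `N` in `<y,b>` and
supplements `N`. -/
def KGRP : Prop := ∀ {G : Type u} [Group G] [Finite G] {T N : Subgroup G} {x y a b : G},
    Cfg T N x y a b → ∀ K : Subgroup G, K.Normal → b ∈ K → x ∉ K →
      (∀ g ∈ N, g ∈ K ↔ ∃ j l : ℕ, g = y ^ j * b ^ l) ∧
      (∀ g : G, ∃ k ∈ K, ∃ n ∈ N, g = k * n)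

/-- P1FIN: two such normal subgroups force `N = G`. -/
def P1FIN : Prop := ∀ {G : Type u} [Group G] [Finite G] {T N : Subgroup G} {x y a b : G},
    Cfg T N x y a b → ∀ Ka Kb : Subgroup G, Ka.Normal → Kb.Normal →
      (∀ g ∈ N, g ∈ Ka ↔ ∃ j l : ℕ, g = x ^ j * a ^ l) →
      (∀ g ∈ N, g ∈ Kb ↔ ∃ j l : ℕ, g = y ^ j * b ^ l) →
      (∀ g : G, ∃ k ∈ Kb, ∃ n ∈ N, g = k * n) → N = ⊤

/-- NF (toolkit): normal form `x^i y^j a^k b^l` in `N`, product rule, `C_G(x)`, values of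
`f`, and `|N| = 36`. -/
def NF : Prop := ∀ {G : Type u} [Group G] [Finite G] {T N : Subgroup G} {x y a b : G},
    Cfg T N x y a b →
    (∀ g, g ∈ N ↔ ∃ i j k l : ℕ, g = x ^ i * y ^ j * a ^ k * b ^ l) ∧
    (∀ i j k l i' j' k' l' : ℕ,
      x ^ i * y ^ j * a ^ k * b ^ l = x ^ i' * y ^ j' * a ^ k' * b ^ l' →
      i % 3 = i' % 3 ∧ j % 3 = j' % 3 ∧ k % 2 = k' % 2 ∧ l % 2 = l' % 2) ∧
    (∀ i j k l i' j' k' l' : ℕ,
      (x ^ i * y ^ j * a ^ k * b ^ l) * (x ^ i' * y ^ j' * a ^ k' * b ^ l') =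
        x ^ (i + (if k % 2 = 0 then i' else 2 * i')) *
          y ^ (j + (if l % 2 = 0 then j' else 2 * j')) * a ^ (k + k') * b ^ (l + l')) ∧
    (∀ g, g ∈ Subgroup.centralizer ({x} : Set G) ↔ ∃ i j l : ℕ, g = x ^ i * y ^ j * b ^ l) ∧
    (∀ f : Subgroup.centralizer ({x} : Set G) →* ℂˣ, Om x y b f →
      ∀ (i j l : ℕ) (h : x ^ i * y ^ j * b ^ l ∈ Subgroup.centralizer ({x} : Set G))
        (hx : x ∈ Subgroup.centralizer ({x} : Set G)),
        f ⟨x ^ i * y ^ j * b ^ l, h⟩ = f ⟨x, hx⟩ ^ i) ∧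
    Nat.card N = 36

/-- CARD18: `|C_G(x)| = 18`. -/
def CARD18 : Prop := ∀ {G : Type u} [Group G] [Finite G] {T N : Subgroup G} {x y a b : G},
    Cfg T N x y a b → Nat.card (Subgroup.centralizer ({x} : Set G)) = 18

/-! ## General character-theoretic pieces -/

/-- GEN3: a generalized character of norm 3 vanishing at 1 and containing the trivial
character once is `1 - Y' + Y''`. -/
def GEN3 : Prop := ∀ {G : Type u} [Group G] [Fintype G] (θ : G → ℂ),
    IsGeneralizedCharacter G θ → θ 1 = 0 → classInner θ (triv G) = 1 → classInner θ θ = 3 →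
    ∃ Y' Y'' : G → ℂ, IsIrrCharacter G Y' ∧ IsIrrCharacter G Y'' ∧
      (∀ g, θ g = 1 - Y' g + Y'' g) ∧ Y' 1 = Y'' 1 + 1 ∧ Y' ≠ triv G ∧ Y'' ≠ triv G

/-- SCHUR3: class-multiplication sum for `1 - Y' + Y''`. -/
def SCHUR3 : Prop := ∀ {G : Type u} [Group G] [Fintype G] (θ Y' Y'' : G → ℂ) (u : G),
    IsIrrCharacter G Y' → IsIrrCharacter G Y'' → (∀ g, θ g = 1 - Y' g + Y'' g) →
    ∑ h : G, θ (u * (h * u * h⁻¹)) =
      (Nat.card G : ℂ) * (1 - Y' u * Y' u / Y' 1 + Y'' u * Y'' u / Y'' 1)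

/-- PAIRSUM: the same sum for an induced function, as a double sum. -/
def PAIRSUM : Prop := ∀ {G : Type u} [Group G] [Fintype G] (H : Subgroup G) (θ : H → ℂ) (u : G),
    ∑ h : G, indFun H θ (u * (h * u * h⁻¹)) =
      (Nat.card H : ℂ)⁻¹ * ∑ g₁ : G, ∑ g₂ : G,
        extendByZero H θ ((g₁ * u * g₁⁻¹) * (g₂ * u * g₂⁻¹))

open Classical in
/-- FIB2: a double sum over conjugators is `|C_G(u)|^2` times the double sum over the class. -/
def FIB2 : Prop := ∀ {G : Type u} [Group G] [Fintype G] (F : G → G → ℂ) (u : G),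
    ∑ g₁ : G, ∑ g₂ : G, F (g₁ * u * g₁⁻¹) (g₂ * u * g₂⁻¹) =
      (Nat.card (Subgroup.centralizer ({u} : Set G)) : ℂ) ^ 2 *
        ∑ u₁ ∈ Finset.univ.filter (fun v : G => IsConj u v),
          ∑ u₂ ∈ Finset.univ.filter (fun v : G => IsConj u v), F u₁ u₂

/-- INT2: character values at involutions are integers. -/
def INT2 : Prop := ∀ {G : Type u} [Group G] [Finite G] (χ : G → ℂ), IsCharacter G χ →
    ∀ u : G, u ^ 2 = 1 → ∃ z : ℤ, χ u = z

/-- INT3: at a real element of order dividing 3 a character takes an integer value congruent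
to its degree modulo 3. -/
def INT3 : Prop := ∀ {G : Type u} [Group G] [Finite G] (χ : G → ℂ), IsCharacter G χ →
    ∀ g c : G, g ^ 3 = 1 → c * g * c⁻¹ = g⁻¹ →
      ∃ (z : ℤ) (d : ℕ), χ g = z ∧ χ 1 = d ∧ (z - d) % 3 = 0

/-- ARITH. -/
def ARITH : Prop := ∀ m z : ℤ, 0 < m → 8 * (m - z) ^ 2 = 9 * m * (m + 1) → m % 3 ≠ 1

/-- EXCB: basic properties of `exc` (no configuration needed). -/
def EXCB : Prop := ∀ {G : Type u} [Group G] [Fintype G] (x : G)
    (f : Subgroup.centralizer ({x} : Set G) →* ℂˣ), f ≠ 1 →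
    IsGeneralizedCharacter G (exc x f) ∧ exc x f 1 = 0 ∧
      classInner (exc x f) (triv G) = 1 ∧
      (∀ g, exc x f g ≠ 0 → ∃ t : G, ∃ h : t⁻¹ * g * t ∈ Subgroup.centralizer ({x} : Set G),
        f ⟨t⁻¹ * g * t, h⟩ ≠ 1)

/-- EXCNORM: if `exc = 3` wherever `f ≠ 1` on `C_G(x)`, then `exc` has norm 3. -/
def EXCNORM : Prop := ∀ {G : Type u} [Group G] [Fintype G] (x : G)
    (f : Subgroup.centralizer ({x} : Set G) →* ℂˣ), f ≠ 1 →
    (∀ g (hg : g ∈ Subgroup.centralizer ({x} : Set G)), f ⟨g, hg⟩ ≠ 1 → exc x f g = 3) →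
    classInner (exc x f) (exc x f) = 3

/-! ## Pieces in the configuration -/

/-- OMEGA: the linear character exists. -/
def OMEGA : Prop := ∀ {G : Type u} [Group G] [Finite G] {T N : Subgroup G} {x y a b : G},
    Cfg T N x y a b → ∃ f : Subgroup.centralizer ({x} : Set G) →* ℂˣ, Om x y b f

/-- EXC3: `exc = 3` on the part of `C_G(x)` where `f ≠ 1`. -/
def EXC3 : Prop := ∀ {G : Type u} [Group G] [Fintype G] {T N : Subgroup G} {x y a b : G},
    Cfg T N x y a b → ∀ f : Subgroup.centralizer ({x} : Set G) →* ℂˣ, Om x y b f →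
    ∀ g (hg : g ∈ Subgroup.centralizer ({x} : Set G)), f ⟨g, hg⟩ ≠ 1 → exc x f g = 3

/-- EXCINV: `exc` vanishes at elements of order at most 2. -/
def EXCINV : Prop := ∀ {G : Type u} [Group G] [Fintype G] {T N : Subgroup G} {x y a b : G},
    Cfg T N x y a b → ∀ f : Subgroup.centralizer ({x} : Set G) →* ℂˣ, Om x y b f →
    ∀ u : G, u ^ 2 = 1 → exc x f u = 0

/-- RED: if a product of two elements of order at most 2 lies in the support of `phi`,
both lie in `N`. -/
def RED : Prop := ∀ {G : Type u} [Group G] [Finite G] {T N : Subgroup G} {x y a b : G},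
    Cfg T N x y a b → ∀ f : Subgroup.centralizer ({x} : Set G) →* ℂˣ, Om x y b f →
    ∀ u₁ u₂ : G, u₁ ^ 2 = 1 → u₂ ^ 2 = 1 →
      (∃ h : u₁ * u₂ ∈ Subgroup.centralizer ({x} : Set G), f ⟨u₁ * u₂, h⟩ ≠ 1) →
      u₁ ∈ N ∧ u₂ ∈ N

/-- PRODVAN: if `b` is fused in `N` only to its `N`-class, `exc` vanishes on products of two
conjugates of `b`. -/
def PRODVAN : Prop := ∀ {G : Type u} [Group G] [Fintype G] {T N : Subgroup G} {x y a b : G},
    Cfg T N x y a b → ∀ f : Subgroup.centralizer ({x} : Set G) →* ℂˣ, Om x y b f →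
    ¬ IsConj b a → ¬ IsConj b (a * b) → ∀ h : G, exc x f (b * (h * b * h⁻¹)) = 0

/-- KB: then `b` lies in the kernels of `Y'` and `Y''`, while `x` is not in the kernel of
`Y'`. -/
def KB : Prop := ∀ {G : Type u} [Group G] [Fintype G] {T N : Subgroup G} {x y a b : G},
    Cfg T N x y a b → ∀ f : Subgroup.centralizer ({x} : Set G) →* ℂˣ, Om x y b f →
    ¬ IsConj b a → ¬ IsConj b (a * b) → ∀ Y' Y'' : G → ℂ,
    IsIrrCharacter G Y' → IsIrrCharacter G Y'' → (∀ g, exc x f g = 1 - Y' g + Y'' g) →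
    Y' 1 = Y'' 1 + 1 → Y' b = Y' 1 ∧ Y'' b = Y'' 1 ∧ Y' x ≠ Y' 1

/-- KCHAR: degrees and values of `Y''` once the kernel of `Y'` is known. -/
def KCHAR : Prop := ∀ {G : Type u} [Group G] [Fintype G] {T N : Subgroup G} {x y a b : G},
    Cfg T N x y a b → ∀ f : Subgroup.centralizer ({x} : Set G) →* ℂˣ, Om x y b f →
    ∀ (K : Subgroup G) (Y' Y'' : G → ℂ), K.Normal → (∀ g, g ∈ K ↔ Y' g = Y' 1) →
    (∀ g ∈ N, g ∈ K ↔ ∃ j l : ℕ, g = y ^ j * b ^ l) →
    (∀ g : G, ∃ k ∈ K, ∃ n ∈ N, g = k * n) →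
    IsIrrCharacter G Y' → IsIrrCharacter G Y'' → (∀ g, exc x f g = 1 - Y' g + Y'' g) →
    Y' 1 = Y'' 1 + 1 →
    Y'' 1 = 1 ∧ Y' 1 = 2 ∧ Y'' x = 1 ∧ Y'' y = 1 ∧ Y'' b = 1 ∧ Y'' a = -1

open Classical in
/-- CLSUMA: the class-pair sum of `phi` over the class of `a` when `a ~ a * b`. -/
def CLSUMA : Prop := ∀ {G : Type u} [Group G] [Fintype G] {T N : Subgroup G} {x y a b : G},
    Cfg T N x y a b → ∀ f : Subgroup.centralizer ({x} : Set G) →* ℂˣ, Om x y b f →
    IsConj a (a * b) → ¬ IsConj a b →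
    ∑ u₁ ∈ Finset.univ.filter (fun v : G => IsConj a v),
      ∑ u₂ ∈ Finset.univ.filter (fun v : G => IsConj a v),
        extendByZero (Subgroup.centralizer ({x} : Set G)) (phi x f) (u₁ * u₂) = 144

open Classical in
/-- CLSUMB: the class-pair sum of `phi` over the class of `b` when `b ~ a * b`. -/
def CLSUMB : Prop := ∀ {G : Type u} [Group G] [Fintype G] {T N : Subgroup G} {x y a b : G},
    Cfg T N x y a b → ∀ f : Subgroup.centralizer ({x} : Set G) →* ℂˣ, Om x y b f →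
    IsConj b (a * b) → ¬ IsConj a b →
    ∑ u₁ ∈ Finset.univ.filter (fun v : G => IsConj b v),
      ∑ u₂ ∈ Finset.univ.filter (fun v : G => IsConj b v),
        extendByZero (Subgroup.centralizer ({x} : Set G)) (phi x f) (u₁ * u₂) = 81

/-- The data of the linear character `lam` of `G` (trivial at `x`, `y`, `b`; `-1` at `a`). -/
structure Lam {G : Type u} [Group G] (x y a b : G) (lam : G → ℂ) : Prop where
  irr : IsIrrCharacter G lam
  one : lam 1 = 1
  vx : lam x = 1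
  vy : lam y = 1
  vb : lam b = 1
  va : lam a = -1

/-- VY1: `exc` for the `y`-side is orthogonal to `lam`. (`f'` is a linear character of
`C_G(y)`, nontrivial at `y`, trivial at `x` and `a`.) -/
def VY1 : Prop := ∀ {G : Type u} [Group G] [Fintype G] {T N : Subgroup G} {x y a b : G},
    Cfg T N x y a b → ∀ f' : Subgroup.centralizer ({y} : Set G) →* ℂˣ, Om y x a f' →
    ∀ lam : G → ℂ, Lam x y a b lam → classInner (exc y f') lam = 0

/-- VY2: `exc` for the `y`-side is orthogonal to `lam * exc`. -/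
def VY2 : Prop := ∀ {G : Type u} [Group G] [Fintype G] {T N : Subgroup G} {x y a b : G},
    Cfg T N x y a b → ∀ f' : Subgroup.centralizer ({y} : Set G) →* ℂˣ, Om y x a f' →
    ∀ lam : G → ℂ, Lam x y a b lam →
      classInner (exc y f') (fun g => lam g * exc y f' g) = 0

/-- VY3: the inner product of `(1 + lam) * exc` with a class function. -/
def VY3 : Prop := ∀ {G : Type u} [Group G] [Fintype G] {T N : Subgroup G} {x y a b : G},
    Cfg T N x y a b → ∀ f' : Subgroup.centralizer ({y} : Set G) →* ℂˣ, Om y x a f' →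
    ∀ lam : G → ℂ, Lam x y a b lam → ∀ X : G → ℂ, IsClassFunction G X →
      classInner (fun g => (1 + lam g) * exc y f' g) X =
        (conj (X y) + 2 * conj (X (x * y))) / 3

/-- VALY: the value of `X''` at `y` is 1. -/
def VALY : Prop := ∀ {G : Type u} [Group G] [Fintype G] {T N : Subgroup G} {x y a b : G},
    Cfg T N x y a b → ∀ f' : Subgroup.centralizer ({y} : Set G) →* ℂˣ, Om y x a f' →
    ∀ lam : G → ℂ, Lam x y a b lam → ∀ X' X'' : G → ℂ,
    IsIrrCharacter G X' → IsIrrCharacter G X'' → (∀ g, exc y f' g = 1 - X' g + X'' g) →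
    X' 1 = X'' 1 + 1 → X' ≠ triv G → X'' ≠ triv G → X'' y = 1

end Cfsg.Agent.Lib.Helper32.S9Stmt
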