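import Mathlib
import Cfsg.Agent.Lib.Helper32.S9Stmt

/-!
# S3805 piece CFG: the configuration exists
-/

set_option autoImplicit false

namespace Cfsg.Agent.Lib.Helper32.S9CFG

open Cfsg
open Cfsg.Agent.Lib.Helper32.S9Stmt

universe u

variable {G : Type u} [Group G]

theorem pow3_mod {z : G} (h : z ^ 3 = 1) (k : ℕ) : z ^ k = z ^ (k % 3) := by
  conv_lhs => rw [← Nat.div_add_mod k 3, pow_add, pow_mul, h, one_pow, one_mul]

theorem eq_one_of_sq_of_cube {z : G} (h3 : z ^ 3 = 1) (h2 : z * z = 1) : z = 1 := by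
  calc z = z ^ 3 * (z * z)⁻¹ := by group
    _ = 1 := by rw [h3, h2]; simp

/-- `x^i = y^j` forces `y^j = 1`. -/
theorem pow_eq_pow_indep {x y : G} (hy3 : y ^ 3 = 1) (hyx : y ∉ Subgroup.zpowers x) (i j : ℕ)
    (h : x ^ i = y ^ j) : j % 3 = 0 := by
  by_contra hj
  have h3 : j % 3 < 3 := Nat.mod_lt _ (by norm_num)
  have h' : x ^ i = y ^ (j % 3) := by rw [h, pow3_mod hy3 j]
  have hcases : j % 3 = 1 ∨ j % 3 = 2 := by omega
  rcases hcases with h1 | h2
  · rw [h1, pow_one] at h'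
    exact hyx (h' ▸ Subgroup.npow_mem_zpowers x i)
  · rw [h2] at h'
    have : y = (x ^ i) ^ 2 := by
      rw [h', ← pow_mul]
      calc y = y ^ 3 * y := by rw [hy3, one_mul]
        _ = y ^ (2 * 2) := by group
    exact hyx (this ▸ (Subgroup.zpowers x).pow_mem (Subgroup.npow_mem_zpowers x i) 2)

/-- Independence of `x` and `y`. -/
theorem indep {x y : G} (hx3 : x ^ 3 = 1) (hy3 : y ^ 3 = 1) (hxy : x * y = y * x) (hx1 : x ≠ 1)
    (hyx : y ∉ Subgroup.zpowers x) (i j i' j' : ℕ) (h : x ^ i * y ^ j = x ^ i' * y ^ j') :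
    i % 3 = i' % 3 ∧ j % 3 = j' % 3 := by
  have cxy : Commute x y := hxy
  have h'' : x ^ (i + 2 * i') = y ^ (j' + 2 * j) := by
    have e5 : y ^ j * x ^ (2 * i') = x ^ (2 * i') * y ^ j := (cxy.pow_pow (2 * i') j).eq.symm
    have e5' : y ^ j' * x ^ (2 * i') = x ^ (2 * i') * y ^ j' := (cxy.pow_pow (2 * i') j').eq.symm
    have ex : x ^ i' * x ^ (2 * i') = 1 := by
      rw [← pow_add, show i' + 2 * i' = 3 * i' by ring, pow_mul, hx3, one_pow]
    have ey : y ^ j * y ^ (2 * j) = 1 := by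
      rw [← pow_add, show j + 2 * j = 3 * j by ring, pow_mul, hy3, one_pow]
    have s1 : (x ^ i * y ^ j) * x ^ (2 * i') * y ^ (2 * j) = x ^ (i + 2 * i') := by
      rw [mul_assoc (x ^ i) (y ^ j), e5, pow_add]
      simp only [mul_assoc]
      rw [ey, mul_one]
    have s2 : (x ^ i' * y ^ j') * x ^ (2 * i') * y ^ (2 * j) = y ^ (j' + 2 * j) := by
      rw [mul_assoc (x ^ i') (y ^ j'), e5', ← mul_assoc (x ^ i'), ex, one_mul, pow_add]
    rw [← s1, h, s2]
  have hj0 := pow_eq_pow_indep hy3 hyx _ _ h''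
  have hj : j % 3 = j' % 3 := by omega
  have hx : x ^ i = x ^ i' := by
    rw [pow3_mod hy3 j, pow3_mod hy3 j', hj] at h
    exact mul_right_cancel h
  have hi : i % 3 = i' % 3 := by
    have := (pow_eq_pow_iff_modEq (x := x) (n := i) (m := i')).1 hx
    rw [orderOf_eq_prime hx3 hx1] at this
    exact this
  exact ⟨hi, hj⟩

/-- Eigen-analysis: if `a` inverts `x` and fixes `y` on `P = {x^i y^j}`, the fixed elements
are powers of `y` and the inverted ones are powers of `x`. -/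
theorem eigen {x y a : G} (hx3 : x ^ 3 = 1) (hy3 : y ^ 3 = 1)
    (hxy : x * y = y * x) (hx1 : x ≠ 1) (hyx : y ∉ Subgroup.zpowers x)
    (hax : a * x * a⁻¹ = x⁻¹) (hay : a * y * a⁻¹ = y) (t : G)
    (ht : ∃ i j : ℕ, t = x ^ i * y ^ j) :
    (a * t * a⁻¹ = t → ∃ j : ℕ, t = y ^ j) ∧ (a * t * a⁻¹ = t⁻¹ → ∃ i : ℕ, t = x ^ i) := by
  obtain ⟨i, j, rfl⟩ := ht
  have cxy : Commute x y := hxy
  have hxinv : x⁻¹ = x ^ 2 := by rw [inv_eq_iff_mul_eq_one, ← pow_succ', hx3]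
  have hyinv : y⁻¹ = y ^ 2 := by rw [inv_eq_iff_mul_eq_one, ← pow_succ', hy3]
  have hconj : a * (x ^ i * y ^ j) * a⁻¹ = x ^ (2 * i) * y ^ j := by
    have h1 : a * (x ^ i * y ^ j) * a⁻¹ = (a * x * a⁻¹) ^ i * (a * y * a⁻¹) ^ j := by
      rw [conj_pow, conj_pow]; group
    rw [h1, hax, hay, hxinv, ← pow_mul]
  constructor
  · intro h
    rw [hconj] at h
    obtain ⟨h1, -⟩ := indep hx3 hy3 hxy hx1 hyx _ _ _ _ h
    refine ⟨j, ?_⟩
    rw [pow3_mod hx3 i, show i % 3 = 0 by omega, pow_zero, one_mul]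
  · intro h
    rw [hconj] at h
    have hinv : (x ^ i * y ^ j)⁻¹ = x ^ (2 * i) * y ^ (2 * j) := by
      rw [inv_eq_iff_mul_eq_one]
      have e5 : y ^ j * x ^ (2 * i) = x ^ (2 * i) * y ^ j := (cxy.pow_pow (2 * i) j).eq.symm
      calc x ^ i * y ^ j * (x ^ (2 * i) * y ^ (2 * j))
          = x ^ i * (y ^ j * x ^ (2 * i)) * y ^ (2 * j) := by group
        _ = x ^ (i + 2 * i) * y ^ (j + 2 * j) := by
            rw [e5, pow_add, pow_add]; group
        _ = 1 := by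
            rw [show i + 2 * i = 3 * i by ring, show j + 2 * j = 3 * j by ring, pow_mul,
              pow_mul, hx3, hy3, one_pow, one_pow, one_mul]
    rw [hinv] at h
    obtain ⟨-, h2⟩ := indep hx3 hy3 hxy hx1 hyx _ _ _ _ h
    refine ⟨i, ?_⟩
    rw [pow3_mod hy3 j, show j % 3 = 0 by omega, pow_zero, mul_one]


/-- The core construction: from an involution `a` of `N` outside `P` not inverting all of `P`
and a second involution `u` in another coset. -/
theorem key [Finite G] (P N : Subgroup G) (hPN : P ≤ N)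
    (hconj : ∀ n ∈ N, ∀ t ∈ P, n * t * n⁻¹ ∈ P)
    (hcomm : ∀ s ∈ P, ∀ t ∈ P, s * t = t * s) (hp3 : ∀ t ∈ P, t ^ 3 = 1)
    (hcent : ∀ g : G, (∀ t ∈ P, g * t = t * g) → g ∈ P) (hcard : Nat.card P = 9)
    (F1 : ∀ n ∈ N, n * n ∈ P) (F2 : ∀ n ∈ N, ∀ m ∈ N, n * m * n⁻¹ * m⁻¹ ∈ P)
    (hnormN : ∀ g, (∀ t ∈ P, g * t * g⁻¹ ∈ P) → g ∈ N)
    (hloc : ∀ t ∈ P, t ≠ 1 → ∀ g, g * t = t * g → g ∈ N) (hsyl : ¬ 27 ∣ Nat.card G)
    (a u : G) (haN : a ∈ N) (haa : a * a = 1) (haP : a ∉ P) (huN : u ∈ N) (huu : u * u = 1)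
    (huP : u ∉ P) (hauP : a * u ∉ P) (hninv : ∃ t0 ∈ P, a * t0 * a⁻¹ ≠ t0⁻¹) :
    ∃ x y a b : G, Cfg P N x y a b := by
  have ha_inv : a⁻¹ = a := by rw [inv_eq_iff_mul_eq_one, haa]
  obtain ⟨t0, ht0, hne0⟩ := hninv
  -- y
  set s0 := a * t0 * a⁻¹ with hs0
  have hs0P : s0 ∈ P := hconj a haN t0 ht0
  have has0 : a * s0 * a⁻¹ = t0 := by
    rw [hs0, ha_inv]
    calc a * (a * t0 * a) * a = (a * a) * t0 * (a * a) := by group
      _ = t0 := by rw [haa]; group
  set y := t0 * s0 with hy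
  have hyP : y ∈ P := P.mul_mem ht0 hs0P
  have hay : a * y * a⁻¹ = y := by
    have h1 : a * (t0 * s0) * a⁻¹ = (a * t0 * a⁻¹) * (a * s0 * a⁻¹) := by group
    rw [hy, h1, has0, ← hs0]
    exact hcomm s0 hs0P t0 ht0
  have hy1 : y ≠ 1 := by
    intro h
    apply hne0
    rw [hy] at h
    exact eq_inv_of_mul_eq_one_right h
  -- x
  have hex : ∃ t1 ∈ P, a * t1 * a⁻¹ ≠ t1 := by
    by_contra hcon
    push Not at hcon
    apply haP
    apply hcent
    intro t ht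
    have := hcon t ht
    calc a * t = (a * t * a⁻¹) * a := by group
      _ = t * a := by rw [this]
  obtain ⟨t1, ht1, hne1⟩ := hex
  set s1 := a * t1 * a⁻¹ with hs1
  have hs1P : s1 ∈ P := hconj a haN t1 ht1
  have has1 : a * s1 * a⁻¹ = t1 := by
    rw [hs1, ha_inv]
    calc a * (a * t1 * a) * a = (a * a) * t1 * (a * a) := by group
      _ = t1 := by rw [haa]; group
  set x := t1 * s1⁻¹ with hx
  have hxP : x ∈ P := P.mul_mem ht1 (P.inv_mem hs1P)
  have hax : a * x * a⁻¹ = x⁻¹ := by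
    have h1 : a * (t1 * s1⁻¹) * a⁻¹ = (a * t1 * a⁻¹) * (a * s1 * a⁻¹)⁻¹ := by group
    rw [hx, h1, has1, ← hs1]
    group
  have hx1 : x ≠ 1 := by
    intro h
    apply hne1
    rw [hx] at h
    exact (mul_inv_eq_one.1 h).symm
  have hx3 : x ^ 3 = 1 := hp3 x hxP
  have hy3 : y ^ 3 = 1 := hp3 y hyP
  have hxy : x * y = y * x := hcomm x hxP y hyP
  have hyx : y ∉ Subgroup.zpowers x := by
    intro hmem
    obtain ⟨k, hk⟩ := Subgroup.mem_zpowers_iff.1 hmem
    have h1 : a * y * a⁻¹ = y⁻¹ := by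
      rw [← hk, ← conj_zpow, hax, inv_zpow]
    rw [hay] at h1
    apply hy1
    apply eq_one_of_sq_of_cube hy3
    nth_rewrite 1 [h1]
    simp
  -- memT
  have hmemT : ∀ g, g ∈ P ↔ ∃ i j : ℕ, g = x ^ i * y ^ j := by
    intro g
    constructor
    · intro hg
      let e : Fin 3 × Fin 3 → P := fun p =>
        ⟨x ^ (p.1 : ℕ) * y ^ (p.2 : ℕ), P.mul_mem (P.pow_mem hxP _) (P.pow_mem hyP _)⟩
      have hinj : Function.Injective e := by
        rintro ⟨i, j⟩ ⟨i', j'⟩ h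
        have h' : x ^ (i : ℕ) * y ^ (j : ℕ) = x ^ (i' : ℕ) * y ^ (j' : ℕ) :=
          congrArg Subtype.val h
        obtain ⟨h1, h2⟩ := indep hx3 hy3 hxy hx1 hyx _ _ _ _ h'
        simp only [Prod.mk.injEq]
        refine ⟨Fin.ext ?_, Fin.ext ?_⟩
        · have := i.2; have := i'.2; omega
        · have := j.2; have := j'.2; omega
      have hbij : Function.Bijective e := by
        apply Function.Injective.bijective_of_nat_card_le hinj
        rw [hcard, Nat.card_prod, Nat.card_fin]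
      obtain ⟨p, hp⟩ := hbij.2 ⟨g, hg⟩
      exact ⟨p.1, p.2, (congrArg Subtype.val hp).symm⟩
    · rintro ⟨i, j, rfl⟩
      exact P.mul_mem (P.pow_mem hxP _) (P.pow_mem hyP _)
  have hcen2 : ∀ g : G, g * x = x * g → g * y = y * g → g ∈ P := by
    intro g hgx hgy
    apply hcent
    intro t ht
    obtain ⟨i, j, rfl⟩ := (hmemT t).1 ht
    have c1 : Commute g (x ^ i) := Commute.pow_right hgx i
    have c2 : Commute g (y ^ j) := Commute.pow_right hgy j
    exact (c1.mul_right c2).eq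
  have hpow_cases : ∀ (z : G), z ^ 3 = 1 → z ≠ 1 → ∀ (w : G) (k : ℕ), w = z ^ k → w ≠ 1 →
      w = z ∨ w = z⁻¹ := by
    intro z hz3 hz1 w k hw hw1
    have hzinv : z⁻¹ = z ^ 2 := by rw [inv_eq_iff_mul_eq_one, ← pow_succ', hz3]
    rw [pow3_mod hz3 k] at hw
    have h3 : k % 3 < 3 := Nat.mod_lt _ (by norm_num)
    have hcases : k % 3 = 0 ∨ k % 3 = 1 ∨ k % 3 = 2 := by omega
    rcases hcases with h | h | h
    · rw [h, pow_zero] at hw; exact absurd hw hw1
    · rw [h, pow_one] at hw; exact Or.inl hw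
    · rw [h] at hw; exact Or.inr (hw.trans hzinv.symm)
  -- every element of N normalizes <x> and <y>
  have hnorm' : ∀ g ∈ N, (g * y * g⁻¹ = y ∨ g * y * g⁻¹ = y⁻¹) ∧
      (g * x * g⁻¹ = x ∨ g * x * g⁻¹ = x⁻¹) := by
    intro g hg
    have hcP := F2 g hg a haN
    set c := g * a * g⁻¹ * a⁻¹ with hc
    have hga : g * a * g⁻¹ = c * a := by rw [hc]; group
    have hconj_eq : ∀ t ∈ P, (g * a * g⁻¹) * t * (g * a * g⁻¹)⁻¹ = a * t * a⁻¹ := by
      intro t ht
      rw [hga]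
      have h1 : c * a * t * (c * a)⁻¹ = c * (a * t * a⁻¹) * c⁻¹ := by group
      rw [h1, hcomm c hcP _ (hconj a haN t ht)]
      group
    have hgyP : g * y * g⁻¹ ∈ P := hconj g hg y hyP
    have hgxP : g * x * g⁻¹ ∈ P := hconj g hg x hxP
    have hfy : a * (g * y * g⁻¹) * a⁻¹ = g * y * g⁻¹ := by
      rw [← hconj_eq _ hgyP]
      have h1 : g * a * g⁻¹ * (g * y * g⁻¹) * (g * a * g⁻¹)⁻¹ = g * (a * y * a⁻¹) * g⁻¹ := by
        group
      rw [h1, hay]
    have hfx : a * (g * x * g⁻¹) * a⁻¹ = (g * x * g⁻¹)⁻¹ := by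
      rw [← hconj_eq _ hgxP]
      have h1 : g * a * g⁻¹ * (g * x * g⁻¹) * (g * a * g⁻¹)⁻¹ = g * (a * x * a⁻¹) * g⁻¹ := by
        group
      rw [h1, hax]
      group
    have hne : ∀ z : G, z ≠ 1 → g * z * g⁻¹ ≠ 1 := by
      intro z hz h
      apply hz
      calc z = g⁻¹ * (g * z * g⁻¹) * g := by group
        _ = 1 := by rw [h]; group
    constructor
    · obtain ⟨j, hj⟩ := (eigen hx3 hy3 hxy hx1 hyx hax hay _ ((hmemT _).1 hgyP)).1 hfy
      exact hpow_cases y hy3 hy1 _ j hj (hne y hy1)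
    · obtain ⟨i, hi⟩ := (eigen hx3 hy3 hxy hx1 hyx hax hay _ ((hmemT _).1 hgxP)).2 hfx
      exact hpow_cases x hx3 hx1 _ i hi (hne x hx1)
  have hcomm_of_conj : ∀ g z : G, g * z * g⁻¹ = z → g * z = z * g := by
    intro g z h
    calc g * z = (g * z * g⁻¹) * g := by group
      _ = z * g := by rw [h]
  -- b
  have hb : ∃ b ∈ N, b * b = 1 ∧ b * x * b⁻¹ = x ∧ b * y * b⁻¹ = y⁻¹ := by
    obtain ⟨huy, hux⟩ := hnorm' u huN
    rcases hux with hux | hux <;> rcases huy with huy | huy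
    · exact absurd (hcen2 u (hcomm_of_conj u x hux) (hcomm_of_conj u y huy)) huP
    · exact ⟨u, huN, huu, hux, huy⟩
    · exfalso
      apply hauP
      apply hcen2
      · apply hcomm_of_conj
        have h1 : a * u * x * (a * u)⁻¹ = a * (u * x * u⁻¹) * a⁻¹ := by group
        rw [h1, hux]
        have h2 : a * x⁻¹ * a⁻¹ = (a * x * a⁻¹)⁻¹ := by group
        rw [h2, hax, inv_inv]
      · apply hcomm_of_conj
        have h1 : a * u * y * (a * u)⁻¹ = a * (u * y * u⁻¹) * a⁻¹ := by group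
        rw [h1, huy, hay]
    · set v := a * u with hv
      have hvN : v ∈ N := N.mul_mem haN huN
      have hvx : v * x * v⁻¹ = x := by
        have h1 : a * u * x * (a * u)⁻¹ = a * (u * x * u⁻¹) * a⁻¹ := by group
        rw [hv, h1, hux]
        have h2 : a * x⁻¹ * a⁻¹ = (a * x * a⁻¹)⁻¹ := by group
        rw [h2, hax, inv_inv]
      have hvy : v * y * v⁻¹ = y⁻¹ := by
        have h1 : a * u * y * (a * u)⁻¹ = a * (u * y * u⁻¹) * a⁻¹ := by group
        rw [hv, h1, huy]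
        have h2 : a * y⁻¹ * a⁻¹ = (a * y * a⁻¹)⁻¹ := by group
        rw [h2, hay]
      have hvv : v * v ∈ P := F1 v hvN
      refine ⟨v * v * v, N.mul_mem (N.mul_mem hvN hvN) hvN, ?_, ?_, ?_⟩
      · have h3 := hp3 _ hvv
        calc v * v * v * (v * v * v) = (v * v) ^ 3 := by simp only [pow_three, mul_assoc]
          _ = 1 := h3
      · have h1 : v * v * v * x * (v * v * v)⁻¹ = v * (v * (v * x * v⁻¹) * v⁻¹) * v⁻¹ := by
          group
        rw [h1, hvx, hvx, hvx]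
      · have h1 : v * v * v * y * (v * v * v)⁻¹ = v * (v * (v * y * v⁻¹) * v⁻¹) * v⁻¹ := by
          group
        have h2 : v * y⁻¹ * v⁻¹ = (v * y * v⁻¹)⁻¹ := by group
        rw [h1, hvy, h2, hvy, inv_inv, hvy]
  obtain ⟨b, hbN, hbb, hbx, hby⟩ := hb
  have hb_inv : b⁻¹ = b := by rw [inv_eq_iff_mul_eq_one, hbb]
  -- a b = b a
  have hab : a * b = b * a := by
    have hcP := F2 a haN b hbN
    set c := a * b * a⁻¹ * b⁻¹ with hc
    have hc' : c = a * b * a * b := by rw [hc, ha_inv, hb_inv]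
    have h1 : b * c * b⁻¹ = c⁻¹ := by
      rw [hc', hb_inv]
      have e1 : b * (a * b * a * b) * b = b * a * b * a * (b * b) := by group
      have e2 : (a * b * a * b)⁻¹ = b⁻¹ * a⁻¹ * b⁻¹ * a⁻¹ := by group
      rw [e1, e2, hbb, ha_inv, hb_inv, mul_one]
    have h2 : a * c * a⁻¹ = c⁻¹ := by
      rw [hc', ha_inv]
      have e1 : a * (a * b * a * b) * a = (a * a) * b * a * b * a := by group
      have e2 : (a * b * a * b)⁻¹ = b⁻¹ * a⁻¹ * b⁻¹ * a⁻¹ := by group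
      rw [e1, e2, haa, ha_inv, hb_inv, one_mul]
    -- c is inverted by b, so a power of y, so fixed by a
    have hyx' : x ∉ Subgroup.zpowers y := by
      intro hmem
      obtain ⟨k, hk⟩ := Subgroup.mem_zpowers_iff.1 hmem
      have h3 : b * x * b⁻¹ = x⁻¹ := by
        rw [← hk, ← conj_zpow, hby, inv_zpow]
      rw [hbx] at h3
      apply hx1
      apply eq_one_of_sq_of_cube hx3
      nth_rewrite 1 [h3]
      simp
    have hcmem : ∃ i j : ℕ, c = y ^ i * x ^ j := by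
      obtain ⟨i, j, e⟩ := (hmemT c).1 hcP
      exact ⟨j, i, by rw [e]; exact ((show Commute x y from hxy).pow_pow i j).eq⟩
    obtain ⟨j, hj⟩ := (eigen hy3 hx3 hxy.symm hy1 hyx' hby hbx c hcmem).2 h1
    have h3 : a * c * a⁻¹ = c := by
      rw [hj, ← conj_pow, hay]
    rw [h3] at h2
    have hc1 : c = 1 := by
      apply eq_one_of_sq_of_cube (hp3 c hcP)
      nth_rewrite 1 [h2]
      simp
    calc a * b = (a * b * a⁻¹ * b⁻¹) * b * a := by group
      _ = b * a := by rw [← hc, hc1, one_mul]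
  -- memN
  have hmemN : ∀ g, g ∈ N ↔ ∃ t ∈ P, ∃ k l : ℕ, g = t * a ^ k * b ^ l := by
    intro g
    constructor
    · intro hg
      obtain ⟨hgy, hgx⟩ := hnorm' g hg
      have hk : ∃ k : ℕ, a ^ k * x * (a ^ k)⁻¹ = g * x * g⁻¹ := by
        rcases hgx with h | h
        · exact ⟨0, by rw [h]; simp⟩
        · exact ⟨1, by rw [h, pow_one, hax]⟩
      have hl : ∃ l : ℕ, b ^ l * y * (b ^ l)⁻¹ = g * y * g⁻¹ := by
        rcases hgy with h | h
        · exact ⟨0, by rw [h]; simp⟩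
        · exact ⟨1, by rw [h, pow_one, hby]⟩
      obtain ⟨k, hk⟩ := hk
      obtain ⟨l, hl⟩ := hl
      set m := a ^ k * b ^ l with hm
      have hmN : m ∈ N := N.mul_mem (N.pow_mem haN k) (N.pow_mem hbN l)
      have hbx' : b ^ l * x * (b ^ l)⁻¹ = x := by
        have : Commute (b ^ l) x := Commute.pow_left (hcomm_of_conj b x hbx) l
        rw [this.eq]; group
      have hmx : m * x * m⁻¹ = g * x * g⁻¹ := by
        have h1 : a ^ k * b ^ l * x * (a ^ k * b ^ l)⁻¹ =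
            a ^ k * (b ^ l * x * (b ^ l)⁻¹) * (a ^ k)⁻¹ := by group
        rw [hm, h1, hbx', hk]
      have hmy : m * y * m⁻¹ = g * y * g⁻¹ := by
        have h1 : a ^ k * b ^ l * y * (a ^ k * b ^ l)⁻¹ =
            a ^ k * (b ^ l * y * (b ^ l)⁻¹) * (a ^ k)⁻¹ := by group
        rw [hm, h1, hl]
        have hay' : Commute (a ^ k) y := Commute.pow_left (hcomm_of_conj a y hay) k
        rcases hgy with h | h
        · rw [h, hay'.eq]; group
        · rw [h, (hay'.inv_right).eq]; group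
      set s := g⁻¹ * m with hs
      have hsP : s ∈ P := by
        apply hcen2
        · apply hcomm_of_conj
          have h1 : g⁻¹ * m * x * (g⁻¹ * m)⁻¹ = g⁻¹ * (m * x * m⁻¹) * g := by group
          rw [hs, h1, hmx]; group
        · apply hcomm_of_conj
          have h1 : g⁻¹ * m * y * (g⁻¹ * m)⁻¹ = g⁻¹ * (m * y * m⁻¹) * g := by group
          rw [hs, h1, hmy]; group
      refine ⟨m * s⁻¹ * m⁻¹, hconj m hmN _ (P.inv_mem hsP), k, l, ?_⟩
      rw [mul_assoc (m * s⁻¹ * m⁻¹), ← hm, hs]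
      group
    · rintro ⟨t, ht, k, l, rfl⟩
      exact N.mul_mem (N.mul_mem (hPN ht) (N.pow_mem haN k)) (N.pow_mem hbN l)
  exact ⟨x, y, a, b,
    { x3 := hx3
      y3 := hy3
      a2 := by rw [pow_two, haa]
      b2 := by rw [pow_two, hbb]
      xy := hxy
      ab := hab
      ax := hax
      ay := hcomm_of_conj a y hay
      bx := hcomm_of_conj b x hbx
      by_ := hby
      x1 := hx1
      yx := hyx
      memT := hmemT
      memN := hmemN
      norm := hnormN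
      loc := hloc
      syl := hsyl }⟩


/-- The piece CFG. -/
theorem main : S9Stmt.CFG.{u} := by
  intro G _ _ T hT hcard hC hnorm hK hloc
  classical
  haveI : Fact (Nat.Prime 3) := ⟨Nat.prime_three⟩
  set P : Subgroup G := (T : Subgroup G) with hP
  set N : Subgroup G := Subgroup.normalizer ((T : Subgroup G) : Set G) with hN
  have hPN : P ≤ N := Subgroup.le_normalizer
  have hconj : ∀ n ∈ N, ∀ t ∈ P, n * t * n⁻¹ ∈ P := fun n hn t ht =>
    (Subgroup.mem_normalizer_iff.1 hn t).1 ht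
  have hcomm : ∀ s ∈ P, ∀ t ∈ P, s * t = t * s := by
    intro s hs t ht
    have := hT.1.is_comm.comm (⟨s, hs⟩ : P) ⟨t, ht⟩
    exact congrArg Subtype.val this
  have hp3 : ∀ t ∈ P, t ^ 3 = 1 := hT.2
  have hcent : ∀ g : G, (∀ t ∈ P, g * t = t * g) → g ∈ P := by
    intro g hg
    have : g ∈ Subgroup.centralizer ((T : Subgroup G) : Set G) := by
      rw [Subgroup.mem_centralizer_iff]
      intro t ht
      exact (hg t ht).symm
    rw [hC] at this
    exact this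
  haveI := hK
  have hmk : ∀ (n : G) (hn : n ∈ N),
      (QuotientGroup.mk (⟨n, hn⟩ : N) : N ⧸ P.subgroupOf N) = 1 ↔ n ∈ P := by
    intro n hn
    rw [QuotientGroup.eq_one_iff, Subgroup.mem_subgroupOf]
  have F1 : ∀ n ∈ N, n * n ∈ P := by
    intro n hn
    have h := IsKleinFour.mul_self (QuotientGroup.mk (⟨n, hn⟩ : N) : N ⧸ P.subgroupOf N)
    rw [← QuotientGroup.mk_mul] at h
    exact (hmk (n * n) (N.mul_mem hn hn)).1 h
  have F2 : ∀ n ∈ N, ∀ m ∈ N, n * m * n⁻¹ * m⁻¹ ∈ P := by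
    intro n hn m hm
    have hmem : n * m * n⁻¹ * m⁻¹ ∈ N :=
      N.mul_mem (N.mul_mem (N.mul_mem hn hm) (N.inv_mem hn)) (N.inv_mem hm)
    apply (hmk _ hmem).1
    have e : (⟨n * m * n⁻¹ * m⁻¹, hmem⟩ : N) = ⟨n, hn⟩ * ⟨m, hm⟩ * ⟨n, hn⟩⁻¹ * ⟨m, hm⟩⁻¹ := rfl
    rw [e, QuotientGroup.mk_mul, QuotientGroup.mk_mul, QuotientGroup.mk_mul, QuotientGroup.mk_inv,
      QuotientGroup.mk_inv, IsKleinFour.inv_eq_self, IsKleinFour.inv_eq_self, mul_assoc (_ * _)]
    exact IsKleinFour.mul_self _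
  have hnormN : ∀ g, (∀ t ∈ P, g * t * g⁻¹ ∈ P) → g ∈ N := by
    intro g hg
    exact Subgroup.mem_normalizer_fintype (fun n hn => hg n hn)
  have hloc' : ∀ t ∈ P, t ≠ 1 → ∀ g, g * t = t * g → g ∈ N := by
    intro t ht ht1 g hg
    apply hloc t ht ht1
    rw [Subgroup.mem_centralizer_iff]
    intro h hh
    rw [Set.mem_singleton_iff.1 hh]
    exact hg.symm
  have hsyl : ¬ 27 ∣ Nat.card G := by
    intro h
    have h27 : (3 : ℕ) ^ 3 ∣ Nat.card G := by norm_num; exact h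
    have := T.pow_dvd_card_of_pow_dvd_card h27
    rw [hcard] at this
    norm_num at this
  -- two distinct nontrivial cosets
  have hQcard : Nat.card (N ⧸ P.subgroupOf N) = 4 := IsKleinFour.card_four
  haveI : Finite (N ⧸ P.subgroupOf N) :=
    Nat.finite_of_card_ne_zero (by rw [hQcard]; norm_num)
  haveI := Fintype.ofFinite (N ⧸ P.subgroupOf N)
  have h3 : 2 < Fintype.card (N ⧸ P.subgroupOf N) := by
    rw [← Nat.card_eq_fintype_card, hQcard]; norm_num
  obtain ⟨qa, qb, qc, hab, hac, hbc⟩ := Fintype.two_lt_card_iff.1 h3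
  have hex : ∃ q1 q2 : N ⧸ P.subgroupOf N, q1 ≠ 1 ∧ q2 ≠ 1 ∧ q1 ≠ q2 := by
    by_cases ha : qa = 1
    · exact ⟨qb, qc, fun h => hab (ha.trans h.symm), fun h => hac (ha.trans h.symm), hbc⟩
    · by_cases hb : qb = 1
      · exact ⟨qa, qc, ha, fun h => hbc (hb.trans h.symm), hac⟩
      · exact ⟨qa, qb, ha, hb, hab⟩
  obtain ⟨q1, q2, hq1, hq2, hq12⟩ := hex
  obtain ⟨⟨n1, hn1⟩, rfl⟩ := QuotientGroup.mk_surjective q1
  obtain ⟨⟨n2, hn2⟩, rfl⟩ := QuotientGroup.mk_surjective q2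
  have hn1P : n1 ∉ P := fun h => hq1 ((hmk n1 hn1).2 h)
  have hn2P : n2 ∉ P := fun h => hq2 ((hmk n2 hn2).2 h)
  have hn12 : n1 * n2 ∉ P := by
    intro h
    have h' := (hmk (n1 * n2) (N.mul_mem hn1 hn2)).2 h
    apply hq12
    have e : (⟨n1 * n2, N.mul_mem hn1 hn2⟩ : N) = ⟨n1, hn1⟩ * ⟨n2, hn2⟩ := rfl
    rw [e, QuotientGroup.mk_mul] at h'
    rw [eq_inv_of_mul_eq_one_left h', IsKleinFour.inv_eq_self]
  have hn21 : n2 * n1 ∉ P := by
    intro h
    apply hn12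
    have hc := F2 n2 hn2 n1 hn1
    have e : n1 * n2 = (n2 * n1 * n2⁻¹ * n1⁻¹)⁻¹ * (n2 * n1) := by group
    rw [e]
    exact P.mul_mem (P.inv_mem hc) h
  -- involutions
  have hcube : ∀ n ∈ N, n ∉ P → (n * n * n ∈ N ∧ (n * n * n) * (n * n * n) = 1 ∧ n * n * n ∉ P) := by
    intro n hn hnP
    refine ⟨N.mul_mem (N.mul_mem hn hn) hn, ?_, ?_⟩
    · have h3 := hp3 _ (F1 n hn)
      calc n * n * n * (n * n * n) = (n * n) ^ 3 := by simp only [pow_three, mul_assoc]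
        _ = 1 := h3
    · intro h
      apply hnP
      have e : n = (n * n)⁻¹ * (n * n * n) := by group
      rw [e]
      exact P.mul_mem (P.inv_mem (F1 n hn)) h
  have hprod : ∀ n ∈ N, ∀ m ∈ N, n * m ∉ P → (n * n * n) * (m * m * m) ∉ P := by
    intro n hn m hm hnm h
    apply hnm
    have h1 : n * (m * m) * n⁻¹ ∈ P := hconj n hn _ (F1 m hm)
    have e : n * m = (n * (m * m) * n⁻¹)⁻¹ * ((n * n)⁻¹ * ((n * n * n) * (m * m * m))) := by
      group
    rw [e]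
    exact P.mul_mem (P.inv_mem h1) (P.mul_mem (P.inv_mem (F1 n hn)) h)
  obtain ⟨hu1N, hu1u1, hu1P⟩ := hcube n1 hn1 hn1P
  obtain ⟨hu2N, hu2u2, hu2P⟩ := hcube n2 hn2 hn2P
  have hu12 := hprod n1 hn1 n2 hn2 hn12
  have hu21 := hprod n2 hn2 n1 hn1 hn21
  set u1 := n1 * n1 * n1 with hu1
  set u2 := n2 * n2 * n2 with hu2
  by_cases hinv1 : ∀ t ∈ P, u1 * t * u1⁻¹ = t⁻¹
  · have hinv2 : ∃ t0 ∈ P, u2 * t0 * u2⁻¹ ≠ t0⁻¹ := by
      by_contra hcon
      push Not at hcon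
      apply hu12
      apply hcent
      intro t ht
      have e1 := hcon t ht
      have e2 := hinv1 t ht
      have h0 : (u1 * u2) * t * (u1 * u2)⁻¹ = t := by
        have h1 : u1 * u2 * t * (u1 * u2)⁻¹ = u1 * (u2 * t * u2⁻¹) * u1⁻¹ := by group
        rw [h1, e1]
        have h2 : u1 * t⁻¹ * u1⁻¹ = (u1 * t * u1⁻¹)⁻¹ := by group
        rw [h2, e2, inv_inv]
      calc u1 * u2 * t = (u1 * u2 * t * (u1 * u2)⁻¹) * (u1 * u2) := by group
        _ = t * (u1 * u2) := by rw [h0]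
    exact key P N hPN hconj hcomm hp3 hcent hcard F1 F2 hnormN hloc' hsyl u2 u1 hu2N hu2u2 hu2P
      hu1N hu1u1 hu1P hu21 hinv2
  · push Not at hinv1
    exact key P N hPN hconj hcomm hp3 hcent hcard F1 F2 hnormN hloc' hsyl u1 u2 hu1N hu1u1 hu1P
      hu2N hu2u2 hu2P hu12 hinv1

end Cfsg.Agent.Lib.Helper32.S9CFG
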