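import Mathlib
import Cfsg.Agent.Lib.Helper32.S9Stmt
import Cfsg.Agent.Lib.Helper32.S9NF

/-!
# S3805 pieces TI, INV, CARD18, RED (group theory in the configuration)
-/

set_option autoImplicit false

namespace Cfsg.Agent.Lib.Helper32.S9Grp

open Cfsg
open Cfsg.Agent.Lib.Helper32.S9Stmt
open Cfsg.Agent.Lib.Helper32.S9NF

universe u

variable {G : Type u} [Group G] {T N : Subgroup G} {x y a b : G}

theorem nf_eq (hc : Cfg T N x y a b) {i j k l i' j' k' l' : ℕ} (hi : i % 3 = i' % 3)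
    (hj : j % 3 = j' % 3) (hk : k % 2 = k' % 2) (hl : l % 2 = l' % 2) :
    x ^ i * y ^ j * a ^ k * b ^ l = x ^ i' * y ^ j' * a ^ k' * b ^ l' := by
  have e1 : x ^ i = x ^ i' := by rw [x_pow_mod hc i, x_pow_mod hc i', hi]
  have e2 : y ^ j = y ^ j' := by rw [y_pow_mod hc j, y_pow_mod hc j', hj]
  have e3 : a ^ k = a ^ k' := by rw [a_pow_mod hc k, a_pow_mod hc k', hk]
  have e4 : b ^ l = b ^ l' := by rw [b_pow_mod hc l, b_pow_mod hc l', hl]
  rw [e1, e2, e3, e4]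

theorem T_pow3 (hc : Cfg T N x y a b) {t : G} (ht : t ∈ T) : t ^ 3 = 1 := by
  obtain ⟨i, j, rfl⟩ := (hc.memT t).1 ht
  rw [((cxy hc).pow_pow i j).mul_pow, ← pow_mul, ← pow_mul, mul_comm i 3, mul_comm j 3,
    pow_mul, pow_mul, hc.x3, hc.y3, one_pow, one_pow, one_mul]

theorem T_comm (hc : Cfg T N x y a b) {s t : G} (hs : s ∈ T) (ht : t ∈ T) : s * t = t * s := by
  obtain ⟨i, j, rfl⟩ := (hc.memT s).1 hs
  obtain ⟨i', j', rfl⟩ := (hc.memT t).1 ht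
  have c1 : Commute (x ^ i) (x ^ i') := (Commute.refl x).pow_pow i i'
  have c2 : Commute (x ^ i) (y ^ j') := (cxy hc).pow_pow i j'
  have c3 : Commute (y ^ j) (x ^ i') := (cxy hc).symm.pow_pow j i'
  have c4 : Commute (y ^ j) (y ^ j') := (Commute.refl y).pow_pow j j'
  exact ((c1.mul_right c2).mul_left (c3.mul_right c4)).eq

theorem sq_mem_T (hc : Cfg T N x y a b) {n : G} (hn : n ∈ N) : n ^ 2 ∈ T := by
  obtain ⟨i, j, k, l, rfl⟩ := (mem_N_iff hc n).1 hn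
  rw [pow_two, prod_rule hc]
  have ea : a ^ (k + k) = 1 := by rw [← two_mul, pow_mul, hc.a2, one_pow]
  have eb : b ^ (l + l) = 1 := by rw [← two_mul, pow_mul, hc.b2, one_pow]
  rw [ea, eb, mul_one, mul_one]
  exact (hc.memT _).2 ⟨_, _, rfl⟩

/-- TI. -/
theorem ti (hc : Cfg T N x y a b) (g t : G) (ht : t ∈ T) (ht1 : t ≠ 1)
    (hgt : g * t * g⁻¹ ∈ T) : g ∈ N := by
  apply hc.norm
  intro s hs
  have hcomm : (g * s * g⁻¹) * (g * t * g⁻¹) = (g * t * g⁻¹) * (g * s * g⁻¹) := by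
    have := T_comm hc hs ht
    calc (g * s * g⁻¹) * (g * t * g⁻¹) = g * (s * t) * g⁻¹ := by group
      _ = g * (t * s) * g⁻¹ := by rw [this]
      _ = _ := by group
  have hne : g * t * g⁻¹ ≠ 1 := by
    intro h
    apply ht1
    calc t = g⁻¹ * (g * t * g⁻¹) * g := by group
      _ = 1 := by rw [h]; group
  have hN : g * s * g⁻¹ ∈ N := hc.loc _ hgt hne _ hcomm
  have h3 : (g * s * g⁻¹) ^ 3 = 1 := by
    rw [conj_pow, T_pow3 hc hs]
    group
  have h2 := sq_mem_T hc hN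
  have : g * s * g⁻¹ = ((g * s * g⁻¹) ^ 2)⁻¹ := by
    rw [eq_inv_iff_mul_eq_one, ← pow_succ', h3]
  rw [this]
  exact T.inv_mem h2

theorem ti_piece : S9Stmt.TI.{u} := by
  intro G _ _ T N x y a b hc g t ht ht1 hgt
  exact ti hc g t ht ht1 hgt

/-- INV. -/
theorem inv (hc : Cfg T N x y a b) (u : G) (hu : u ∈ N) (hu2 : u ^ 2 = 1) :
    u = 1 ∨ (∃ t ∈ T, u = t * a * t⁻¹) ∨ (∃ t ∈ T, u = t * b * t⁻¹) ∨
      (∃ t ∈ T, u = t * (a * b) * t⁻¹) := by
  obtain ⟨i, j, k, l, rfl⟩ := (mem_N_iff hc u).1 hu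
  rw [pow_two, prod_rule hc] at hu2
  have h0 : (1 : G) = x ^ 0 * y ^ 0 * a ^ 0 * b ^ 0 := by simp
  rw [h0] at hu2
  obtain ⟨hi, hj, -, -⟩ := nf_unique hc _ _ _ _ _ _ _ _ hu2
  by_cases hk : k % 2 = 0
  · rw [if_pos hk] at hi
    by_cases hl : l % 2 = 0
    · rw [if_pos hl] at hj
      left
      rw [h0]
      exact nf_eq hc (by omega) (by omega) (by omega) (by omega)
    · rw [if_neg hl] at hj
      right; right; left
      refine ⟨y ^ (2 * j), (hc.memT _).2 ⟨0, 2 * j, by simp⟩, ?_⟩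
      rw [eq_mul_inv_iff_mul_eq]
      have key : (x ^ i * y ^ j * a ^ k * b ^ l) * (x ^ 0 * y ^ (2 * j) * a ^ 0 * b ^ 0) =
          x ^ 0 * y ^ (2 * j) * a ^ 0 * b ^ 1 := by
        rw [prod_rule hc]
        apply nf_eq hc
        · split_ifs <;> omega
        · split_ifs <;> omega
        · omega
        · omega
      simpa using key
  · rw [if_neg hk] at hi
    by_cases hl : l % 2 = 0
    · rw [if_pos hl] at hj
      right; left
      refine ⟨x ^ (2 * i), (hc.memT _).2 ⟨2 * i, 0, by simp⟩, ?_⟩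
      rw [eq_mul_inv_iff_mul_eq]
      have key : (x ^ i * y ^ j * a ^ k * b ^ l) * (x ^ (2 * i) * y ^ 0 * a ^ 0 * b ^ 0) =
          x ^ (2 * i) * y ^ 0 * a ^ 1 * b ^ 0 := by
        rw [prod_rule hc]
        apply nf_eq hc
        · split_ifs <;> omega
        · split_ifs <;> omega
        · omega
        · omega
      simpa using key
    · rw [if_neg hl] at hj
      right; right; right
      refine ⟨x ^ (2 * i) * y ^ (2 * j), (hc.memT _).2 ⟨2 * i, 2 * j, rfl⟩, ?_⟩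
      rw [eq_mul_inv_iff_mul_eq]
      have key : (x ^ i * y ^ j * a ^ k * b ^ l) * (x ^ (2 * i) * y ^ (2 * j) * a ^ 0 * b ^ 0) =
          x ^ (2 * i) * y ^ (2 * j) * a ^ 1 * b ^ 1 := by
        rw [prod_rule hc]
        apply nf_eq hc
        · split_ifs <;> omega
        · split_ifs <;> omega
        · omega
        · omega
      simpa [mul_assoc] using key

theorem inv_piece : S9Stmt.INV.{u} := by
  intro G _ _ T N x y a b hc u hu hu2
  exact inv hc u hu hu2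

/-- CARD18. -/
theorem card18 (hc : Cfg T N x y a b) :
    Nat.card (Subgroup.centralizer ({x} : Set G)) = 18 := by
  let e : Fin 3 × Fin 3 × Fin 2 → Subgroup.centralizer ({x} : Set G) := fun p =>
    ⟨x ^ (p.1 : ℕ) * y ^ (p.2.1 : ℕ) * b ^ (p.2.2 : ℕ),
      (mem_centralizer_x_iff hc _).2 ⟨_, _, _, rfl⟩⟩
  have hinj : Function.Injective e := by
    rintro ⟨i, j, l⟩ ⟨i', j', l'⟩ h
    have h' : x ^ (i : ℕ) * y ^ (j : ℕ) * b ^ (l : ℕ) =
        x ^ (i' : ℕ) * y ^ (j' : ℕ) * b ^ (l' : ℕ) := congrArg Subtype.val h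
    have h'' : x ^ (i : ℕ) * y ^ (j : ℕ) * a ^ 0 * b ^ (l : ℕ) =
        x ^ (i' : ℕ) * y ^ (j' : ℕ) * a ^ 0 * b ^ (l' : ℕ) := by simpa using h'
    obtain ⟨h1, h2, -, h4⟩ := nf_unique hc _ _ _ _ _ _ _ _ h''
    simp only [Prod.mk.injEq]
    refine ⟨Fin.ext ?_, Fin.ext ?_, Fin.ext ?_⟩
    · have := i.2; have := i'.2; omega
    · have := j.2; have := j'.2; omega
    · have := l.2; have := l'.2; omega
  have hsurj : Function.Surjective e := by
    rintro ⟨g, hg⟩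
    obtain ⟨i, j, l, rfl⟩ := (mem_centralizer_x_iff hc g).1 hg
    refine ⟨(⟨i % 3, Nat.mod_lt _ (by norm_num)⟩, ⟨j % 3, Nat.mod_lt _ (by norm_num)⟩,
      ⟨l % 2, Nat.mod_lt _ (by norm_num)⟩), ?_⟩
    apply Subtype.ext
    show x ^ (i % 3) * y ^ (j % 3) * b ^ (l % 2) = _
    rw [← x_pow_mod hc, ← y_pow_mod hc, ← b_pow_mod hc]
  rw [← Nat.card_congr (Equiv.ofBijective e ⟨hinj, hsurj⟩)]
  simp [Nat.card_eq_fintype_card]

theorem card18_piece : S9Stmt.CARD18.{u} := by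
  intro G _ _ T N x y a b hc
  exact card18 hc

theorem x_mem_cent : x ∈ Subgroup.centralizer ({x} : Set G) := by
  rw [Subgroup.mem_centralizer_iff]
  intro g hg
  rw [Set.mem_singleton_iff.1 hg]

/-- Values of `f` are cube roots of unity. -/
theorem f_pow3 (hc : Cfg T N x y a b) (f : Subgroup.centralizer ({x} : Set G) →* ℂˣ)
    (hf : Om x y b f) (w : Subgroup.centralizer ({x} : Set G)) : f w ^ 3 = 1 := by
  obtain ⟨w, hw⟩ := w
  obtain ⟨i, j, l, rfl⟩ := (mem_centralizer_x_iff hc w).1 hw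
  have hx : x ∈ Subgroup.centralizer ({x} : Set G) := x_mem_cent
  have h3 : (⟨x, hx⟩ : Subgroup.centralizer ({x} : Set G)) ^ 3 = 1 :=
    Subtype.ext (by simpa using hc.x3)
  rw [f_apply hc f hf i j l hw hx, ← pow_mul, mul_comm, pow_mul, ← map_pow, h3, map_one, one_pow]

/-- On the support of `phi`, squares lie in `T` and are nontrivial. -/
theorem supp_sq (hc : Cfg T N x y a b) (f : Subgroup.centralizer ({x} : Set G) →* ℂˣ)
    (hf : Om x y b f) {w : G} (hw : w ∈ Subgroup.centralizer ({x} : Set G))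
    (hfw : f ⟨w, hw⟩ ≠ 1) : w ^ 2 ∈ T ∧ w ^ 2 ≠ 1 := by
  obtain ⟨i, j, l, rfl⟩ := (mem_centralizer_x_iff hc w).1 hw
  have hx : x ∈ Subgroup.centralizer ({x} : Set G) := x_mem_cent
  rw [f_apply hc f hf i j l hw hx] at hfw
  have hi : i % 3 ≠ 0 := by
    intro h0
    apply hfw
    have h3 : (⟨x, hx⟩ : Subgroup.centralizer ({x} : Set G)) ^ 3 = 1 :=
      Subtype.ext (by simpa using hc.x3)
    rw [← Nat.div_add_mod i 3, h0, add_zero, pow_mul, ← map_pow, h3, map_one, one_pow]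
  have e : (x ^ i * y ^ j * b ^ l) ^ 2 =
      x ^ (i + i) * y ^ (j + if l % 2 = 0 then j else 2 * j) * a ^ 0 * b ^ (l + l) := by
    have := prod_rule hc i j 0 l i j 0 l
    simpa [pow_two] using this
  have eb : b ^ (l + l) = 1 := by rw [← two_mul, pow_mul, hc.b2, one_pow]
  constructor
  · rw [e, eb, pow_zero, mul_one, mul_one]
    exact (hc.memT _).2 ⟨_, _, rfl⟩
  · intro h1
    rw [e] at h1
    have h0 : (1 : G) = x ^ 0 * y ^ 0 * a ^ 0 * b ^ 0 := by simp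
    rw [h0] at h1
    obtain ⟨h1', -, -, -⟩ := nf_unique hc _ _ _ _ _ _ _ _ h1
    omega

/-- RED. -/
theorem red (hc : Cfg T N x y a b) (f : Subgroup.centralizer ({x} : Set G) →* ℂˣ)
    (hf : Om x y b f) (u₁ u₂ : G) (h1 : u₁ ^ 2 = 1) (h2 : u₂ ^ 2 = 1)
    (h : ∃ h : u₁ * u₂ ∈ Subgroup.centralizer ({x} : Set G), f ⟨u₁ * u₂, h⟩ ≠ 1) :
    u₁ ∈ N ∧ u₂ ∈ N := by
  obtain ⟨hw, hfw⟩ := h
  obtain ⟨hT, hne⟩ := supp_sq hc f hf hw hfw
  have e1 : u₁⁻¹ = u₁ := by rw [inv_eq_iff_mul_eq_one, ← pow_two, h1]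
  have e2 : u₂⁻¹ = u₂ := by rw [inv_eq_iff_mul_eq_one, ← pow_two, h2]
  have hu1 : u₁ ∈ N := by
    apply ti hc u₁ ((u₁ * u₂) ^ 2) hT hne
    have : u₁ * (u₁ * u₂) ^ 2 * u₁⁻¹ = ((u₁ * u₂) ^ 2)⁻¹ := by
      rw [pow_two, mul_inv_rev, mul_inv_rev, e1, e2]
      calc u₁ * (u₁ * u₂ * (u₁ * u₂)) * u₁ = (u₁ * u₁) * u₂ * u₁ * u₂ * u₁ := by group
        _ = u₂ * u₁ * (u₂ * u₁) := by rw [← pow_two, h1, one_mul, mul_assoc]
    rw [this]
    exact T.inv_mem hT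
  refine ⟨hu1, ?_⟩
  have hwN : u₁ * u₂ ∈ N :=
    hc.loc x (x_mem_T hc) hc.x1 _ (Subgroup.mem_centralizer_iff.1 hw x rfl).symm
  have : u₂ = u₁⁻¹ * (u₁ * u₂) := by group
  rw [this]
  exact N.mul_mem (N.inv_mem hu1) hwN

theorem red_piece : S9Stmt.RED.{u} := by
  intro G _ _ T N x y a b hc f hf u₁ u₂ h1 h2 h
  exact red hc f hf u₁ u₂ h1 h2 h

end Cfsg.Agent.Lib.Helper32.S9Grp
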