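import Mathlib
import Cfsg.Agent.Lib.Helper32.S9Stmt
import Cfsg.Agent.Lib.Helper32.S9NF
import Cfsg.Agent.Lib.Helper32.S9Grp
import Cfsg.Agent.Lib.CT.FrobRec

/-!
# S3805 pieces EXCINV, EXC3 (values of the exceptional class function)
-/

set_option autoImplicit false

namespace Cfsg.Agent.Lib.Helper32.S9Exc

open Cfsg
open Cfsg.Agent.Lib.Helper32.S9Stmt
open Cfsg.Agent.Lib.Helper32.S9NF
open Cfsg.Agent.Lib.Helper32.S9Grp
open Cfsg.Agent.Lib.CT.FrobRec

universe u

variable {G : Type u} [Group G] {T N : Subgroup G} {x y a b : G}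

/-- The support of `exc`. -/
theorem exc_support [Fintype G] (f : Subgroup.centralizer ({x} : Set G) →* ℂˣ) (g : G)
    (h : exc x f g ≠ 0) :
    ∃ t : G, ∃ h : t⁻¹ * g * t ∈ Subgroup.centralizer ({x} : Set G),
      f ⟨t⁻¹ * g * t, h⟩ ≠ 1 := by
  by_contra hcon
  push Not at hcon
  apply h
  unfold exc
  rw [indFun_apply]
  have : ∀ t : G, extendByZero (Subgroup.centralizer ({x} : Set G)) (phi x f) (t⁻¹ * g * t) = 0 := by
    intro t
    by_cases ht : t⁻¹ * g * t ∈ Subgroup.centralizer ({x} : Set G)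
    · rw [extendByZero_apply_of_mem _ _ ht]
      unfold phi
      rw [hcon t ht]
      simp
    · exact extendByZero_apply_of_not_mem _ _ ht
  simp [this]

/-- A nonzero value of the extension by zero of `phi`. -/
theorem ext_ne_zero (f : Subgroup.centralizer ({x} : Set G) →* ℂˣ) (v : G)
    (h : extendByZero (Subgroup.centralizer ({x} : Set G)) (phi x f) v ≠ 0) :
    ∃ hv : v ∈ Subgroup.centralizer ({x} : Set G), f ⟨v, hv⟩ ≠ 1 := by
  have hv := extendByZero_ne_zero_mem _ _ h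
  refine ⟨hv, fun h1 => h ?_⟩
  rw [extendByZero_apply_of_mem _ _ hv]
  unfold phi
  rw [h1]
  simp

/-- EXCINV. -/
theorem excinv [Fintype G] (hc : Cfg T N x y a b)
    (f : Subgroup.centralizer ({x} : Set G) →* ℂˣ) (hf : Om x y b f) (u : G) (hu : u ^ 2 = 1) :
    exc x f u = 0 := by
  by_contra h
  obtain ⟨t, ht, hne⟩ := exc_support f u h
  apply hne
  have h2 : f ⟨t⁻¹ * u * t, ht⟩ ^ 2 = 1 := by
    rw [← map_pow]
    have : (⟨t⁻¹ * u * t, ht⟩ : Subgroup.centralizer ({x} : Set G)) ^ 2 = 1 := by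
      apply Subtype.ext
      show (t⁻¹ * u * t) ^ 2 = 1
      have := conj_pow (a := t⁻¹) (b := u) (i := 2)
      rw [inv_inv] at this
      rw [this, hu]
      group
    rw [this, map_one]
  have h3 := f_pow3 hc f hf ⟨t⁻¹ * u * t, ht⟩
  generalize f ⟨t⁻¹ * u * t, ht⟩ = z at h2 h3 ⊢
  have e : z = z ^ 3 * (z ^ 2)⁻¹ := by group
  rw [e, h2, h3]
  simp

theorem excinv_piece : S9Stmt.EXCINV.{u} := by
  intro G _ _ T N x y a b hc f hf u hu
  exact excinv hc f hf u hu

/-- Conjugation by `a` on `C_G(x)` squares the value of `f`. -/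
theorem conj_a (hc : Cfg T N x y a b) (f : Subgroup.centralizer ({x} : Set G) →* ℂˣ)
    (hf : Om x y b f) (g : G) (hg : g ∈ Subgroup.centralizer ({x} : Set G)) :
    ∃ h : a⁻¹ * g * a ∈ Subgroup.centralizer ({x} : Set G),
      f ⟨a⁻¹ * g * a, h⟩ = f ⟨g, hg⟩ ^ 2 := by
  obtain ⟨p, q, r, rfl⟩ := (mem_centralizer_x_iff hc g).1 hg
  have key : a⁻¹ * (x ^ p * y ^ q * b ^ r) * a = x ^ (2 * p) * y ^ q * b ^ r := by
    have e1 := prod_rule hc 0 0 1 0 p q 0 r
    have e2 := prod_rule hc (0 + 2 * p) (0 + q) (1 + 0) (0 + r) 0 0 1 0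
    have e3 : a⁻¹ * (x ^ p * y ^ q * b ^ r) * a =
        (x ^ 0 * y ^ 0 * a ^ 1 * b ^ 0) * (x ^ p * y ^ q * a ^ 0 * b ^ r) *
          (x ^ 0 * y ^ 0 * a ^ 1 * b ^ 0) := by
      rw [a_inv hc]
      simp
    rw [e3, e1]
    simp only [Nat.one_mod, one_ne_zero, if_false, Nat.zero_mod, if_true]
    rw [e2]
    have e4 : x ^ (2 * p) * y ^ q * b ^ r = x ^ (2 * p) * y ^ q * a ^ 0 * b ^ r := by simp
    rw [e4]
    apply nf_eq hc
    · split_ifs <;> omega
    · split_ifs <;> omega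
    · omega
    · omega
  have hx : x ∈ Subgroup.centralizer ({x} : Set G) := x_mem_cent
  have hmem : a⁻¹ * (x ^ p * y ^ q * b ^ r) * a ∈ Subgroup.centralizer ({x} : Set G) := by
    rw [key]
    exact (mem_centralizer_x_iff hc _).2 ⟨_, _, _, rfl⟩
  refine ⟨hmem, ?_⟩
  have e5 : (⟨a⁻¹ * (x ^ p * y ^ q * b ^ r) * a, hmem⟩ : Subgroup.centralizer ({x} : Set G)) =
      ⟨x ^ (2 * p) * y ^ q * b ^ r, key ▸ hmem⟩ := Subtype.ext key
  rw [e5, f_apply hc f hf (2 * p) q r _ hx, f_apply hc f hf p q r hg hx, ← pow_mul, mul_comm]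

theorem sum_indicator [Fintype G] (K : Subgroup G) [DecidablePred (· ∈ K)] :
    ∑ t : G, (if t ∈ K then (1 : ℂ) else 0) = (Nat.card K : ℂ) := by
  rw [Finset.sum_boole]
  congr 1
  rw [Nat.card_eq_fintype_card]
  exact (Fintype.card_of_subtype _ (fun t => by simp)).symm

/-- EXC3. -/
theorem exc3 [Fintype G] (hc : Cfg T N x y a b)
    (f : Subgroup.centralizer ({x} : Set G) →* ℂˣ) (hf : Om x y b f) (g : G)
    (hg : g ∈ Subgroup.centralizer ({x} : Set G)) (hfg : f ⟨g, hg⟩ ≠ 1) : exc x f g = 3 := by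
  classical
  set c : ℂ := ((f ⟨g, hg⟩ : ℂˣ) : ℂ) with hcdef
  have hc3 : c ^ 3 = 1 := by
    have := congrArg Units.val (f_pow3 hc f hf ⟨g, hg⟩)
    simpa using this
  have hc1 : c ≠ 1 := fun h => hfg (Units.ext h)
  have hcc : c ^ 2 + c + 1 = 0 := by
    have h0 : (c - 1) * (c ^ 2 + c + 1) = 0 := by
      have : (c - 1) * (c ^ 2 + c + 1) = c ^ 3 - 1 := by ring
      rw [this, hc3, sub_self]
    rcases mul_eq_zero.1 h0 with h | h
    · exact absurd (sub_eq_zero.1 h) hc1
    · exact h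
  have hHN : ∀ t : G, t ∈ Subgroup.centralizer ({x} : Set G) → t ∈ N := fun t ht =>
    hc.loc x (x_mem_T hc) hc.x1 _ (Subgroup.mem_centralizer_iff.1 ht x rfl).symm
  have hterm : ∀ t : G,
      extendByZero (Subgroup.centralizer ({x} : Set G)) (phi x f) (t⁻¹ * g * t) =
        (1 - c) * (if t ∈ Subgroup.centralizer ({x} : Set G) then 1 else 0) +
          (1 - c ^ 2) * ((if t ∈ N then 1 else 0) -
            (if t ∈ Subgroup.centralizer ({x} : Set G) then 1 else 0)) := by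
    intro t
    by_cases ht : t ∈ Subgroup.centralizer ({x} : Set G)
    · have htN := hHN t ht
      rw [if_pos ht, if_pos htN]
      have hmem : t⁻¹ * g * t ∈ Subgroup.centralizer ({x} : Set G) :=
        Subgroup.mul_mem _ (Subgroup.mul_mem _ (Subgroup.inv_mem _ ht) hg) ht
      rw [extendByZero_apply_of_mem _ _ hmem]
      unfold phi
      have e : (⟨t⁻¹ * g * t, hmem⟩ : Subgroup.centralizer ({x} : Set G)) =
          (⟨t, ht⟩ : Subgroup.centralizer ({x} : Set G))⁻¹ * ⟨g, hg⟩ * ⟨t, ht⟩ :=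
        Subtype.ext (by simp)
      rw [e, map_mul, map_mul, map_inv, mul_comm, ← mul_assoc, mul_inv_cancel, one_mul]
      simp [hcdef]
    · rw [if_neg ht]
      by_cases htN : t ∈ N
      · rw [if_pos htN]
        -- t = h₀ * a with h₀ ∈ H
        obtain ⟨i', j', k', l', rfl⟩ := (mem_N_iff hc t).1 htN
        have hk : k' % 2 = 1 := by
          by_contra hk
          apply ht
          have : x ^ i' * y ^ j' * a ^ k' * b ^ l' = x ^ i' * y ^ j' * b ^ l' := by
            rw [a_pow_mod hc k', show k' % 2 = 0 by omega, pow_zero, mul_one]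
          rw [this]
          exact (mem_centralizer_x_iff hc _).2 ⟨_, _, _, rfl⟩
        have hh0 : x ^ i' * y ^ j' * b ^ l' ∈ Subgroup.centralizer ({x} : Set G) :=
          (mem_centralizer_x_iff hc _).2 ⟨_, _, _, rfl⟩
        have et : x ^ i' * y ^ j' * a ^ k' * b ^ l' = (x ^ i' * y ^ j' * b ^ l') * a := by
          rw [a_pow_mod hc k', hk, pow_one, mul_assoc _ a, ((cab hc).pow_right l').eq, mul_assoc,
            mul_assoc, mul_assoc]
        rw [et]
        set h₀ := x ^ i' * y ^ j' * b ^ l' with hh₀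
        have hg1 : h₀⁻¹ * g * h₀ ∈ Subgroup.centralizer ({x} : Set G) :=
          Subgroup.mul_mem _ (Subgroup.mul_mem _ (Subgroup.inv_mem _ hh0) hg) hh0
        have hfg1 : f ⟨h₀⁻¹ * g * h₀, hg1⟩ = f ⟨g, hg⟩ := by
          have e : (⟨h₀⁻¹ * g * h₀, hg1⟩ : Subgroup.centralizer ({x} : Set G)) =
              (⟨h₀, hh0⟩ : Subgroup.centralizer ({x} : Set G))⁻¹ * ⟨g, hg⟩ * ⟨h₀, hh0⟩ :=
            Subtype.ext (by simp)
          rw [e, map_mul, map_mul, map_inv, mul_comm, ← mul_assoc, mul_inv_cancel, one_mul]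
        obtain ⟨hmem, hval⟩ := conj_a hc f hf _ hg1
        have e2 : (h₀ * a)⁻¹ * g * (h₀ * a) = a⁻¹ * (h₀⁻¹ * g * h₀) * a := by group
        rw [e2, extendByZero_apply_of_mem _ _ hmem]
        unfold phi
        rw [hval, hfg1]
        simp [hcdef]
      · rw [if_neg htN]
        simp only [mul_zero, sub_self, add_zero]
        by_contra hne
        obtain ⟨hv, hfv⟩ := ext_ne_zero f _ hne
        obtain ⟨hT1, hne1⟩ := supp_sq hc f hf hg hfg
        obtain ⟨hT2, -⟩ := supp_sq hc f hf hv hfv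
        apply htN
        have : t⁻¹ ∈ N := by
          apply ti hc t⁻¹ (g ^ 2) hT1 hne1
          have e := conj_pow (a := t⁻¹) (b := g) (i := 2)
          rw [← e]
          simpa using hT2
        simpa using N.inv_mem this
  unfold exc
  rw [indFun_apply]
  simp_rw [hterm]
  rw [Finset.sum_add_distrib, ← Finset.mul_sum, ← Finset.mul_sum, Finset.sum_sub_distrib,
    sum_indicator, sum_indicator, card18 hc, card_N hc]
  push_cast
  linear_combination (-1 : ℂ) * hcc

theorem exc3_piece : S9Stmt.EXC3.{u} := by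
  intro G _ _ T N x y a b hc f hf g hg hfg
  exact exc3 hc f hf g hg hfg

end Cfsg.Agent.Lib.Helper32.S9Exc
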