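import Mathlib
import Cfsg.Agent.Lib.Helper32.S9Stmt
import Cfsg.Agent.Lib.Helper32.S9NF
import Cfsg.Agent.Lib.Helper32.S9Grp
import Cfsg.Agent.Lib.Helper32.S9Exc
import Cfsg.Agent.Lib.CT.ClassMult
import Cfsg.Agent.Lib.Helper3.Irr

/-!
# S3805 pieces OMEGA, SCHUR3, PRODVAN, KB
-/

set_option autoImplicit false

namespace Cfsg.Agent.Lib.Helper32.S9Ker

open Cfsg
open Cfsg.Agent.Lib.Helper32.S9Stmt
open Cfsg.Agent.Lib.Helper32.S9NF
open Cfsg.Agent.Lib.Helper32.S9Grp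
open Cfsg.Agent.Lib.Helper32.S9Exc
open Cfsg.Agent.Lib.Helper3

universe u

variable {G : Type u} [Group G] {T N : Subgroup G} {x y a b : G}

theorem exists_zeta : ∃ ζ : ℂˣ, ζ ^ 3 = 1 ∧ ζ ≠ 1 := by
  have h := Complex.isPrimitiveRoot_exp 3 (by norm_num)
  refine ⟨Units.mk0 _ (h.ne_zero (by norm_num)), ?_, ?_⟩
  · apply Units.ext
    simpa using h.pow_eq_one
  · intro h1
    have := congrArg Units.val h1
    simp only [Units.val_mk0, Units.val_one] at this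
    exact h.ne_one (by norm_num) this

/-- OMEGA. -/
theorem omega (hc : Cfg T N x y a b) :
    ∃ f : Subgroup.centralizer ({x} : Set G) →* ℂˣ, Om x y b f := by
  classical
  obtain ⟨ζ, hζ3, hζ1⟩ := exists_zeta
  have hex : ∀ h : Subgroup.centralizer ({x} : Set G),
      ∃ i j l : ℕ, (h : G) = x ^ i * y ^ j * b ^ l :=
    fun h => (mem_centralizer_x_iff hc h).1 h.2
  choose idx jdx ldx hrep using hex
  have hmod : ∀ n : ℕ, ζ ^ n = ζ ^ (n % 3) := fun n => by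
    conv_lhs => rw [← Nat.div_add_mod n 3, pow_add, pow_mul, hζ3, one_pow, one_mul]
  have hkey : ∀ (h : Subgroup.centralizer ({x} : Set G)) (i j l : ℕ),
      (h : G) = x ^ i * y ^ j * b ^ l → ζ ^ idx h = ζ ^ i := by
    intro h i j l hh
    have e : x ^ idx h * y ^ jdx h * a ^ 0 * b ^ ldx h = x ^ i * y ^ j * a ^ 0 * b ^ l := by
      simp only [pow_zero, mul_one]
      rw [← hrep h, hh]
    obtain ⟨h1, -, -, -⟩ := nf_unique hc _ _ _ _ _ _ _ _ e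
    rw [hmod (idx h), hmod i, h1]
  let f : Subgroup.centralizer ({x} : Set G) →* ℂˣ := MonoidHom.mk' (fun h => ζ ^ idx h) (by
    intro h1 h2
    have e : ((h1 * h2 : Subgroup.centralizer ({x} : Set G)) : G) =
        x ^ (idx h1 + idx h2) *
          y ^ (jdx h1 + if ldx h1 % 2 = 0 then jdx h2 else 2 * jdx h2) *
          b ^ (ldx h1 + ldx h2) := by
      have := prod_rule hc (idx h1) (jdx h1) 0 (ldx h1) (idx h2) (jdx h2) 0 (ldx h2)
      rw [Subgroup.coe_mul]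
      conv_lhs => rw [hrep h1, hrep h2]
      simpa using this
    show ζ ^ idx (h1 * h2) = ζ ^ idx h1 * ζ ^ idx h2
    rw [hkey _ _ _ _ e, pow_add])
  refine ⟨f, ⟨fun hx => ?_, fun hy => ?_, fun hb => ?_⟩⟩
  · show ζ ^ idx ⟨x, hx⟩ ≠ 1
    rw [hkey ⟨x, hx⟩ 1 0 0 (by simp)]
    simpa using hζ1
  · show ζ ^ idx ⟨y, hy⟩ = 1
    rw [hkey ⟨y, hy⟩ 0 1 0 (by simp)]
    simp
  · show ζ ^ idx ⟨b, hb⟩ = 1
    rw [hkey ⟨b, hb⟩ 0 0 1 (by simp)]
    simp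

theorem omega_piece : S9Stmt.OMEGA.{u} := by
  intro G _ _ T N x y a b hc
  exact omega hc

/-- SCHUR3. -/
theorem schur3 [Fintype G] (θ Y' Y'' : G → ℂ) (u : G) (hY' : IsIrrCharacter G Y')
    (hY'' : IsIrrCharacter G Y'') (hθ : ∀ g, θ g = 1 - Y' g + Y'' g) :
    ∑ h : G, θ (u * (h * u * h⁻¹)) =
      (Nat.card G : ℂ) * (1 - Y' u * Y' u / Y' 1 + Y'' u * Y'' u / Y'' 1) := by
  simp_rw [hθ]
  rw [Finset.sum_add_distrib, Finset.sum_sub_distrib, CT.ClassMult.irr_schur_average hY',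
    CT.ClassMult.irr_schur_average hY'']
  simp only [Finset.sum_const, Finset.card_univ, nsmul_eq_mul, mul_one,
    Nat.card_eq_fintype_card]
  ring

theorem schur3_piece : S9Stmt.SCHUR3.{u} := by
  intro G _ _ θ Y' Y'' u hY' hY'' hθ
  exact schur3 θ Y' Y'' u hY' hY'' hθ

theorem b_ne_one (hc : Cfg T N x y a b) : b ≠ 1 := by
  intro h
  have h1 := hc.by_
  rw [h] at h1
  simp only [one_mul, inv_one, mul_one] at h1
  have h2 : y ^ 2 = 1 := by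
    rw [pow_two]
    nth_rewrite 1 [h1]
    simp
  apply y1 hc
  have e : y = y ^ 3 * (y ^ 2)⁻¹ := by group
  rw [e, hc.y3, h2]
  simp

theorem T_conj_b (hc : Cfg T N x y a b) {s : G} (hs : s ∈ T) :
    ∃ m : ℕ, s * b * s⁻¹ = x ^ 0 * y ^ m * a ^ 0 * b ^ 1 := by
  obtain ⟨i, j, rfl⟩ := (hc.memT s).1 hs
  refine ⟨2 * j, ?_⟩
  rw [mul_inv_eq_iff_eq_mul]
  have key : (x ^ 0 * y ^ (2 * j) * a ^ 0 * b ^ 1) * (x ^ i * y ^ j * a ^ 0 * b ^ 0) =
      x ^ i * y ^ j * a ^ 0 * b ^ 1 := by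
    rw [prod_rule hc]
    apply nf_eq hc
    · rw [if_pos (by norm_num)]; omega
    · rw [if_neg (by norm_num)]; omega
    · omega
    · omega
  simpa using key.symm

/-- A conjugate of `b` lying in `N`, when `b` is not fused to `a` or `a * b`. -/
theorem conj_b_in_N (hc : Cfg T N x y a b) (h1 : ¬ IsConj b a) (h2 : ¬ IsConj b (a * b))
    (t : G) (hu : t⁻¹ * b * t ∈ N) :
    ∃ m : ℕ, t⁻¹ * b * t = x ^ 0 * y ^ m * a ^ 0 * b ^ 1 := by
  have hsq : (t⁻¹ * b * t) ^ 2 = 1 := by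
    have e := conj_pow (a := t⁻¹) (b := b) (i := 2)
    rw [inv_inv] at e
    rw [e, hc.b2]
    group
  rcases inv hc _ hu hsq with h | ⟨s, hs, h⟩ | ⟨s, hs, h⟩ | ⟨s, hs, h⟩
  · exfalso
    apply b_ne_one hc
    calc b = t * (t⁻¹ * b * t) * t⁻¹ := by group
      _ = 1 := by rw [h]; group
  · exfalso
    apply h1
    rw [isConj_iff]
    refine ⟨s⁻¹ * t⁻¹, ?_⟩
    calc s⁻¹ * t⁻¹ * b * (s⁻¹ * t⁻¹)⁻¹ = s⁻¹ * (t⁻¹ * b * t) * s := by group
      _ = a := by rw [h]; group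
  · rw [h]
    exact T_conj_b hc hs
  · exfalso
    apply h2
    rw [isConj_iff]
    refine ⟨s⁻¹ * t⁻¹, ?_⟩
    calc s⁻¹ * t⁻¹ * b * (s⁻¹ * t⁻¹)⁻¹ = s⁻¹ * (t⁻¹ * b * t) * s := by group
      _ = a * b := by rw [h]; group

/-- PRODVAN. -/
theorem prodvan [Fintype G] (hc : Cfg T N x y a b)
    (f : Subgroup.centralizer ({x} : Set G) →* ℂˣ) (hf : Om x y b f)
    (h1 : ¬ IsConj b a) (h2 : ¬ IsConj b (a * b)) (h : G) :
    exc x f (b * (h * b * h⁻¹)) = 0 := by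
  by_contra hne
  obtain ⟨t, hmem, hfne⟩ := exc_support f _ hne
  set u₁ := t⁻¹ * b * t with hu₁
  set u₂ := (h⁻¹ * t)⁻¹ * b * (h⁻¹ * t) with hu₂
  have hprod : t⁻¹ * (b * (h * b * h⁻¹)) * t = u₁ * u₂ := by
    rw [hu₁, hu₂]
    group
  have hsq₁ : u₁ ^ 2 = 1 := by
    have e := conj_pow (a := t⁻¹) (b := b) (i := 2)
    rw [inv_inv] at e
    rw [hu₁, e, hc.b2]
    group
  have hsq₂ : u₂ ^ 2 = 1 := by
    have e := conj_pow (a := (h⁻¹ * t)⁻¹) (b := b) (i := 2)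
    rw [inv_inv] at e
    rw [hu₂, e, hc.b2]
    group
  have hmem' : u₁ * u₂ ∈ Subgroup.centralizer ({x} : Set G) := hprod ▸ hmem
  have hfne' : f ⟨u₁ * u₂, hmem'⟩ ≠ 1 := by
    intro h0
    apply hfne
    rw [← h0]
    congr 1
    exact Subtype.ext hprod
  obtain ⟨hN₁, hN₂⟩ := red hc f hf u₁ u₂ hsq₁ hsq₂ ⟨hmem', hfne'⟩
  obtain ⟨m₁, e₁⟩ := conj_b_in_N hc h1 h2 t hN₁
  obtain ⟨m₂, e₂⟩ := conj_b_in_N hc h1 h2 (h⁻¹ * t) hN₂
  apply hfne'
  have e : u₁ * u₂ = x ^ 0 * y ^ (m₁ + 2 * m₂) * b ^ (1 + 1) := by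
    rw [hu₁, hu₂, e₁, e₂, prod_rule hc]
    simp
  have hx : x ∈ Subgroup.centralizer ({x} : Set G) := x_mem_cent
  have hm : x ^ 0 * y ^ (m₁ + 2 * m₂) * b ^ (1 + 1) ∈ Subgroup.centralizer ({x} : Set G) :=
    e ▸ hmem'
  have : (⟨u₁ * u₂, hmem'⟩ : Subgroup.centralizer ({x} : Set G)) =
      ⟨x ^ 0 * y ^ (m₁ + 2 * m₂) * b ^ (1 + 1), hm⟩ := Subtype.ext e
  rw [this, f_apply hc f hf 0 _ _ hm hx, pow_zero]

theorem prodvan_piece : S9Stmt.PRODVAN.{u} := by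
  intro G _ _ T N x y a b hc f hf h1 h2 h
  exact prodvan hc f hf h1 h2 h

/-- KB. -/
theorem kb [Fintype G] (hc : Cfg T N x y a b)
    (f : Subgroup.centralizer ({x} : Set G) →* ℂˣ) (hf : Om x y b f)
    (h1 : ¬ IsConj b a) (h2 : ¬ IsConj b (a * b)) (Y' Y'' : G → ℂ)
    (hY' : IsIrrCharacter G Y') (hY'' : IsIrrCharacter G Y'')
    (hexc : ∀ g, exc x f g = 1 - Y' g + Y'' g) (hdeg : Y' 1 = Y'' 1 + 1) :
    Y' b = Y' 1 ∧ Y'' b = Y'' 1 ∧ Y' x ≠ Y' 1 := by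
  obtain ⟨d, hd0, hd⟩ := Irr.IsIrrCharacter.exists_apply_one_pos hY''
  have hdC : (d : ℂ) ≠ 0 := by exact_mod_cast hd0.ne'
  have hd1C : (d : ℂ) + 1 ≠ 0 := by exact_mod_cast (Nat.succ_ne_zero d)
  have hG0 : (Nat.card G : ℂ) ≠ 0 := by
    exact_mod_cast (Nat.card_pos (α := G)).ne'
  have hb : Y' b = 1 + Y'' b := by
    have := hexc b
    rw [excinv hc f hf b hc.b2] at this
    linear_combination this
  have hsum := schur3 (exc x f) Y' Y'' b hY' hY'' hexc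
  have hzero : ∑ h : G, exc x f (b * (h * b * h⁻¹)) = 0 :=
    Finset.sum_eq_zero fun h _ => prodvan hc f hf h1 h2 h
  rw [hzero, hb, hdeg, hd] at hsum
  have hv : ((d : ℂ) - Y'' b) ^ 2 = 0 := by
    have h0 : (1 - (1 + Y'' b) * (1 + Y'' b) / ((d : ℂ) + 1) + Y'' b * Y'' b / (d : ℂ)) = 0 := by
      rcases mul_eq_zero.1 hsum.symm with h | h
      · exact absurd h hG0
      · exact h
    field_simp at h0
    linear_combination h0
  have hv' : Y'' b = d := by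
    have := pow_eq_zero_iff (n := 2) (by norm_num) |>.1 hv
    linear_combination -this
  refine ⟨?_, ?_, ?_⟩
  · rw [hb, hv', hdeg, hd]; ring
  · rw [hv', hd]
  · intro hx
    have hxc : x ∈ Subgroup.centralizer ({x} : Set G) := x_mem_cent
    have h3 := hexc x
    rw [exc3 hc f hf x hxc (hf.fx hxc), hx, hdeg, hd] at h3
    have hYx : Y'' x = (d : ℂ) + 3 := by linear_combination -h3
    have hle := Irr.IsCharacter.norm_le (Irr.IsIrrCharacter.isCharacter hY'') x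
    rw [hYx, hd] at hle
    have e1 : ‖((d : ℂ) + 3)‖ = (d : ℝ) + 3 := by
      have : ((d : ℂ) + 3) = (((d : ℝ) + 3 : ℝ) : ℂ) := by push_cast; ring
      rw [this, Complex.norm_real, Real.norm_of_nonneg (by positivity)]
    rw [e1] at hle
    simp at hle
    linarith

theorem kb_piece : S9Stmt.KB.{u} := by
  intro G _ _ T N x y a b hc f hf h1 h2 Y' Y'' hY' hY'' hexc hdeg
  exact kb hc f hf h1 h2 Y' Y'' hY' hY'' hexc hdeg

end Cfsg.Agent.Lib.Helper32.S9Ker
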