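import Mathlib
import Cfsg.Agent.Lib.Helper32.S9Stmt
import Cfsg.Agent.Lib.Helper32.S9NF
import Cfsg.Agent.Lib.Helper32.S9Grp
import Cfsg.Agent.Lib.Helper32.S9Exc
import Cfsg.Agent.Lib.Helper32.S9Ker
import Cfsg.Agent.Lib.Helper32.S9ClSum
import Cfsg.Agent.Lib.CT.LinChar
import Cfsg.Agent.Lib.CT.FrobRec
import Cfsg.Agent.Lib.Helper3.Irr

/-!
# S3805 piece VY3
-/

set_option autoImplicit false

namespace Cfsg.Agent.Lib.Helper32.S9VY3

open Cfsg
open Cfsg.Agent.Lib.Helper32.S9Stmt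
open Cfsg.Agent.Lib.Helper32.S9NF
open Cfsg.Agent.Lib.Helper32.S9Grp
open Cfsg.Agent.Lib.Helper32.S9Exc
open Cfsg.Agent.Lib.Helper32.S9Ker
open Cfsg.Agent.Lib.Helper32.S9ClSum
open Cfsg.Agent.Lib.Helper3
open Cfsg.Agent.Lib.CT
open Cfsg.Agent.Lib.CT.FrobRec
open scoped ComplexConjugate

universe u

variable {G : Type u} [Group G] {T N : Subgroup G} {x y a b : G}

/-- A parametrization of `C_G(x)`. -/
theorem exists_equiv (hc : Cfg T N x y a b) :
    ∃ e : Fin 3 × Fin 3 × Fin 2 ≃ Subgroup.centralizer ({x} : Set G),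
      ∀ p, ((e p : Subgroup.centralizer ({x} : Set G)) : G) =
        x ^ (p.1 : ℕ) * y ^ (p.2.1 : ℕ) * b ^ (p.2.2 : ℕ) := by
  let e : Fin 3 × Fin 3 × Fin 2 → Subgroup.centralizer ({x} : Set G) := fun p =>
    ⟨x ^ (p.1 : ℕ) * y ^ (p.2.1 : ℕ) * b ^ (p.2.2 : ℕ),
      (mem_centralizer_x_iff hc _).2 ⟨_, _, _, rfl⟩⟩
  have hinj : Function.Injective e := by
    rintro ⟨i, j, l⟩ ⟨i', j', l'⟩ h
    have h' : x ^ (i : ℕ) * y ^ (j : ℕ) * b ^ (l : ℕ) =
        x ^ (i' : ℕ) * y ^ (j' : ℕ) * b ^ (l' : ℕ) := congrArg Subtype.val h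
    have h'' : x ^ (i : ℕ) * y ^ (j : ℕ) * a ^ 0 * b ^ (l : ℕ) =
        x ^ (i' : ℕ) * y ^ (j' : ℕ) * a ^ 0 * b ^ (l' : ℕ) := by simpa using h'
    obtain ⟨h1, h2, -, h4⟩ := nf_unique hc _ _ _ _ _ _ _ _ h''
    simp only [Prod.mk.injEq]
    refine ⟨Fin.ext ?_, Fin.ext ?_, Fin.ext ?_⟩
    · have := i.2; have := i'.2; omega
    · have := j.2; have := j'.2; omega
    · have := l.2; have := l'.2; omega
  have hsurj : Function.Surjective e := by
    rintro ⟨g, hg⟩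
    obtain ⟨i, j, l, rfl⟩ := (mem_centralizer_x_iff hc g).1 hg
    refine ⟨(⟨i % 3, Nat.mod_lt _ (by norm_num)⟩, ⟨j % 3, Nat.mod_lt _ (by norm_num)⟩,
      ⟨l % 2, Nat.mod_lt _ (by norm_num)⟩), ?_⟩
    apply Subtype.ext
    show x ^ (i % 3) * y ^ (j % 3) * b ^ (l % 2) = _
    rw [← x_pow_mod hc, ← y_pow_mod hc, ← b_pow_mod hc]
  exact ⟨Equiv.ofBijective e ⟨hinj, hsurj⟩, fun p => rfl⟩

/-- Values of a class function on `T` off `<x>`. -/
theorem class_val (hc : Cfg T N x y a b) (X : G → ℂ) (hX : IsClassFunction G X)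
    (i j : Fin 3) (hi : (i : ℕ) ≠ 0) :
    X (y ^ (i : ℕ) * x ^ (j : ℕ)) = if (j : ℕ) = 0 then X y else X (x * y) := by
  have e12 : y * x ^ 2 = a * (x * y) * a⁻¹ := by
    have h1 : a * (x * y) * a⁻¹ = (a * x * a⁻¹) * (a * y * a⁻¹) := by group
    have h2 : a * y * a⁻¹ = y := by rw [hc.ay]; group
    rw [h1, hc.ax, h2, x_inv hc]
    exact ((cxy hc).pow_left 2).eq.symm
  have e20 : y ^ 2 = b * y * b⁻¹ := by rw [hc.by_, y_inv hc]
  have e21 : y ^ 2 * x = b * (x * y) * b⁻¹ := by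
    have h1 : b * (x * y) * b⁻¹ = (b * x * b⁻¹) * (b * y * b⁻¹) := by group
    have h2 : b * x * b⁻¹ = x := by rw [hc.bx]; group
    rw [h1, hc.by_, h2, y_inv hc]
    exact ((cxy hc).pow_right 2).eq.symm
  have e22 : y ^ 2 * x ^ 2 = b * (y * x ^ 2) * b⁻¹ := by
    have h1 : b * (y * x ^ 2) * b⁻¹ = (b * y * b⁻¹) * (b * x ^ 2 * b⁻¹) := by group
    have h2 : b * x ^ 2 * b⁻¹ = x ^ 2 := by
      rw [((cbx hc).pow_right 2).eq]; group
    rw [h1, hc.by_, h2, y_inv hc]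
  have hi' : (i : ℕ) = 1 ∨ (i : ℕ) = 2 := by have := i.2; omega
  have hj' : (j : ℕ) = 0 ∨ (j : ℕ) = 1 ∨ (j : ℕ) = 2 := by have := j.2; omega
  rcases hi' with hi' | hi' <;> rcases hj' with hj' | hj' | hj' <;> rw [hi', hj']
  · simp
  · simp [hc.xy]
  · simp only [pow_one]
    rw [if_neg (by norm_num), e12, hX]
  · simp only [pow_zero, mul_one, if_true]
    rw [e20, hX]
  · simp only [pow_one]
    rw [if_neg (by norm_num), e21, hX]
  · rw [if_neg (by norm_num), e22, hX, e12, hX]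

/-- VY3. -/
theorem vy3 [Fintype G] (hc : Cfg T N x y a b)
    (f' : Subgroup.centralizer ({y} : Set G) →* ℂˣ) (hf' : Om y x a f')
    (lam : G → ℂ) (hlam : Lam x y a b lam) (X : G → ℂ) (hX : IsClassFunction G X) :
    classInner (fun g => (1 + lam g) * exc y f' g) X =
      (conj (X y) + 2 * conj (X (x * y))) / 3 := by
  classical
  have hc' := hc.swap
  have hlamchar := Irr.IsIrrCharacter.isCharacter hlam.irr
  have hcf : IsClassFunction G (fun g => 1 + lam g) := by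
    intro g h
    show 1 + lam (h * g * h⁻¹) = 1 + lam g
    rw [Irr.IsCharacter.isClassFunction hlamchar g h]
  have e1 : (fun g => (1 + lam g) * exc y f' g) =
      indFun (Subgroup.centralizer ({y} : Set G))
        (fun h => phi y f' h * (1 + lam h)) := by
    rw [indFun_mul_classFunction (Subgroup.centralizer ({y} : Set G)) (phi y f')
      (fun g => 1 + lam g) hcf]
    funext g
    show (1 + lam g) * exc y f' g = exc y f' g * (1 + lam g)
    ring
  rw [e1, frobenius_reciprocity (Subgroup.centralizer ({y} : Set G)) _ X hX]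
  unfold classInner
  obtain ⟨e, he⟩ := exists_equiv hc'
  rw [← Equiv.sum_comp e]
  set ω : ℂ := ((f' ⟨y, x_mem_cent⟩ : ℂˣ) : ℂ) with hω
  have hrel : ω ^ 2 + ω + 1 = 0 := omega_rel hc' f' hf'
  have hlamval : ∀ i j l : ℕ, lam (y ^ i * x ^ j * a ^ l) = (-1 : ℂ) ^ l := by
    intro i j l
    rw [LinChar.linear_mul hlamchar hlam.one, LinChar.linear_mul hlamchar hlam.one,
      LinChar.linear_pow hlamchar hlam.one, LinChar.linear_pow hlamchar hlam.one,
      LinChar.linear_pow hlamchar hlam.one, hlam.vy, hlam.vx, hlam.va]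
    simp
  have hterm : ∀ p : Fin 3 × Fin 3 × Fin 2,
      phi y f' (e p) * (1 + lam (e p)) * conj (X (e p)) =
        (1 - ω ^ (p.1 : ℕ)) * (1 + (-1 : ℂ) ^ (p.2.2 : ℕ)) *
          conj (if (p.2.1 : ℕ) = 0 then X y else X (x * y)) := by
    rintro ⟨i, j, l⟩
    have hphi : phi y f' (e (i, j, l)) = 1 - ω ^ (i : ℕ) := by
      unfold phi
      have hm : y ^ (i : ℕ) * x ^ (j : ℕ) * a ^ (l : ℕ) ∈
          Subgroup.centralizer ({y} : Set G) := by
        rw [← he (i, j, l)]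
        exact (e (i, j, l)).2
      have : e (i, j, l) = ⟨y ^ (i : ℕ) * x ^ (j : ℕ) * a ^ (l : ℕ), hm⟩ :=
        Subtype.ext (he (i, j, l))
      rw [this, f_apply hc' f' hf' _ _ _ hm x_mem_cent]
      simp [hω]
    rw [hphi, he (i, j, l), hlamval]
    show (1 - ω ^ (i : ℕ)) * (1 + (-1 : ℂ) ^ (l : ℕ)) *
        conj (X (y ^ (i : ℕ) * x ^ (j : ℕ) * a ^ (l : ℕ))) =
      (1 - ω ^ (i : ℕ)) * (1 + (-1 : ℂ) ^ (l : ℕ)) *
        conj (if (j : ℕ) = 0 then X y else X (x * y))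
    by_cases hi : (i : ℕ) = 0
    · rw [hi]; simp
    · have hl : (l : ℕ) = 0 ∨ (l : ℕ) = 1 := by have := l.2; omega
      rcases hl with hl | hl
      · simp only [hl, pow_zero, mul_one]
        rw [class_val hc X hX i j hi]
      · rw [hl]; simp
  simp_rw [hterm]
  rw [card18 hc']
  simp only [Fintype.sum_prod_type, Fin.sum_univ_three, Fin.sum_univ_two]
  simp
  linear_combination (-(1 / 9 : ℂ)) * (conj (X y) + 2 * conj (X (x * y))) * hrel

theorem vy3_piece : S9Stmt.VY3.{u} := by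
  intro G _ _ T N x y a b hc f' hf' lam hlam X hX
  exact vy3 hc f' hf' lam hlam X hX

end Cfsg.Agent.Lib.Helper32.S9VY3
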