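import Mathlib
import Cfsg.Prelude.Def_Solvable
import Cfsg.Agent.H32.Cores

set_option autoImplicit false

namespace Cfsg.Agent.Lib.Helper32.SylowRel

open Cfsg.Agent.H32

/-- For `K` normal, `|K : H ∩ K|` divides `|G : H|`. -/
theorem relIndex_dvd_index_of_normal_right {G : Type*} [Group G] [Finite G] (H K : Subgroup G)
    [K.Normal] : H.relIndex K ∣ H.index := by
  have e1 : Nat.card K * K.relIndex (H ⊔ K) = Nat.card ↥(H ⊔ K) := by
    have := Subgroup.relIndex_mul_relIndex ⊥ K (H ⊔ K) bot_le le_sup_right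
    rwa [Subgroup.relIndex_bot_left, Subgroup.relIndex_bot_left] at this
  have e2 : Nat.card ↥(H ⊓ K) * K.relIndex H = Nat.card H := by
    have := Subgroup.relIndex_mul_relIndex ⊥ (H ⊓ K) H bot_le inf_le_left
    rwa [Subgroup.relIndex_bot_left, Subgroup.relIndex_bot_left, Subgroup.inf_relIndex_left] at this
  have e4 : Nat.card H * H.relIndex (H ⊔ K) = Nat.card ↥(H ⊔ K) := by
    have := Subgroup.relIndex_mul_relIndex ⊥ H (H ⊔ K) bot_le le_sup_left
    rwa [Subgroup.relIndex_bot_left, Subgroup.relIndex_bot_left] at this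
  have e5 : Nat.card ↥(H ⊓ K) * H.relIndex K = Nat.card K := by
    have := Subgroup.relIndex_mul_relIndex ⊥ (H ⊓ K) K bot_le inf_le_right
    rwa [Subgroup.relIndex_bot_left, Subgroup.relIndex_bot_left, Subgroup.inf_relIndex_right] at this
  rw [Subgroup.relIndex_sup_right] at e1
  have hpos : 0 < Nat.card H * Nat.card ↥(H ⊓ K) := Nat.mul_pos Nat.card_pos Nat.card_pos
  have key : H.relIndex K = H.relIndex (H ⊔ K) := by
    apply Nat.eq_of_mul_eq_mul_left hpos
    calc Nat.card H * Nat.card ↥(H ⊓ K) * H.relIndex K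
        = Nat.card H * (Nat.card ↥(H ⊓ K) * H.relIndex K) := by ring
      _ = Nat.card H * Nat.card K := by rw [e5]
      _ = Nat.card K * (Nat.card ↥(H ⊓ K) * K.relIndex H) := by rw [e2]; ring
      _ = Nat.card ↥(H ⊓ K) * (Nat.card K * K.relIndex H) := by ring
      _ = Nat.card ↥(H ⊓ K) * (Nat.card H * H.relIndex (H ⊔ K)) := by rw [e1, e4]
      _ = Nat.card H * Nat.card ↥(H ⊓ K) * H.relIndex (H ⊔ K) := by ring
  rw [key]
  exact Subgroup.relIndex_dvd_index_of_le le_sup_left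

/-- The `p'`-core of a finite group has order prime to `p`. -/
theorem pPrimeCore_coprime {G : Type*} [Group G] [Finite G] (p : ℕ) [hp : Fact p.Prime] :
    (Nat.card (Cfsg.pPrimeCore p G)).Coprime p := by
  have := sSup_mem_of_sup_closed {N : Subgroup G | N.Normal ∧ (Nat.card N).Coprime p}
    ⟨inferInstance, by rw [Subgroup.card_bot]; exact Nat.coprime_one_left p⟩
    (by
      rintro x ⟨hx1, hx2⟩ y ⟨hy1, hy2⟩
      refine ⟨Subgroup.sup_normal x y, ?_⟩
      have h1 : x ≤ Subgroup.normalizer (y : Set G) := by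
        rw [Subgroup.normalizer_eq_top_iff.mpr hy1]
        exact le_top
      exact Nat.Coprime.coprime_dvd_left (card_sup_dvd x y h1) (Nat.Coprime.mul_left hx2 hy2))
    {N : Subgroup G | N.Normal ∧ (Nat.card N).Coprime p} (Set.toFinite _) le_rfl
  exact this.2

/-- `p`-elements of a `p'`-subgroup are trivial. -/
theorem eq_one_of_pow_of_coprime {G : Type*} [Group G] [Finite G] {p : ℕ} (D : Subgroup G)
    (hD : (Nat.card D).Coprime p) (x : G) (hx : x ∈ D) (m : ℕ) (hxm : x ^ p ^ m = 1) : x = 1 := by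
  have h1 : orderOf x ∣ p ^ m := orderOf_dvd_of_pow_eq_one hxm
  have h2 : orderOf x ∣ Nat.card D := by
    have := orderOf_dvd_natCard (⟨x, hx⟩ : D)
    rwa [Subgroup.orderOf_mk] at this
  have h3 : (orderOf x).Coprime (p ^ m) :=
    Nat.Coprime.coprime_dvd_left h2 (Nat.Coprime.pow_right m hD)
  have : orderOf x = 1 := Nat.Coprime.eq_one_of_dvd h3 h1
  exact orderOf_eq_one_iff.mp this

/-- Sylow conjugacy for a "relative Sylow subgroup" `Q` of `K`. -/
theorem exists_conj_mem_of_relIndex {G : Type*} [Group G] [Finite G] {p : ℕ} [Fact p.Prime]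
    (K Q : Subgroup G) (hQ : IsPGroup p Q) (hidx : ¬ p ∣ Q.relIndex K) (a : G) (haK : a ∈ K)
    (ha : ∃ j : ℕ, a ^ p ^ j = 1) : ∃ k ∈ K, k * a * k⁻¹ ∈ Q := by
  classical
  have hQ' : IsPGroup p (Q.subgroupOf K) := hQ.comap_subtype
  let S : Sylow p K := hQ'.toSylow hidx
  let a' : K := ⟨a, haK⟩
  have hZ : IsPGroup p (Subgroup.zpowers a') := by
    obtain ⟨k, hk⟩ := ha
    rintro ⟨x, hx⟩
    obtain ⟨m, rfl⟩ := Subgroup.mem_zpowers_iff.mp hx
    refine ⟨k, ?_⟩
    apply Subtype.ext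
    apply Subtype.ext
    simp only [Subgroup.coe_pow, Subgroup.coe_zpow, Subgroup.coe_one]
    show (a ^ m) ^ p ^ k = 1
    rw [← zpow_natCast, ← zpow_mul, mul_comm, zpow_mul, zpow_natCast, hk, one_zpow]
  obtain ⟨S', hS'⟩ := IsPGroup.exists_le_sylow hZ
  obtain ⟨c, hc⟩ := MulAction.exists_smul_eq K S' S
  refine ⟨c, c.2, ?_⟩
  have h1 : a' ∈ (S' : Subgroup K) := hS' (Subgroup.mem_zpowers a')
  have h2 : c * a' * c⁻¹ ∈ (S : Subgroup K) := by
    rw [← hc, Sylow.coe_subgroup_smul]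
    have := Subgroup.smul_mem_pointwise_smul a' (MulAut.conj c) (S' : Subgroup K) h1
    simpa [MulAut.smul_def] using this
  have h3 : c * a' * c⁻¹ ∈ Q.subgroupOf K := h2
  exact h3

end Cfsg.Agent.Lib.Helper32.SylowRel
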